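import Groth.Prelude.Def_CAlg2
import Groth.Agent.S1469
import Groth.Agent.S2730
import Groth.Agent.IntBC.UnibranchDescent

/-!
# Generalisations of a point of an étale scheme over a geometrically unibranch base
-/

set_option autoImplicit false
set_option linter.style.haveILetI false
set_option backward.isDefEq.respectTransparency false
set_option backward.isDefEq.respectTransparency.types false

universe u

open CategoryTheory AlgebraicGeometry TensorProduct

namespace Groth.Agent.TwDescend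

theorem nilradical_isPrime {L : Type u} [CommRing L] [IsLocalRing L] (h : CAlg2.IsGeomUnibranch L) :
    (nilradical L).IsPrime :=
  (Ideal.Quotient.isDomain_iff_prime _).1 h.1.1

/-- The primes below a prime over a geometrically unibranch point have a least element. -/
theorem exists_least_prime {A A' : Type u} [CommRing A] [CommRing A'] [IsNoetherianRing A] [IsNoetherianRing A']
    [Algebra A A'] (hn : EGA4.IsNormalHom A A') (P : Ideal A') [P.IsPrime]
    (hb : CAlg2.IsGeomUnibranch (Localization.AtPrime (P.comap (algebraMap A A')))) :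
    ∃ c : Ideal A', c.IsPrime ∧ c ≤ P ∧ ∀ p : Ideal A', p.IsPrime → p ≤ P → c ≤ p := by
  let p₀ := P.comap (algebraMap A A')
  let B := Localization.AtPrime p₀
  have hlift : ∀ (p : Ideal A'), p.IsPrime → p ≤ P → ∃ Q : Ideal (B ⊗[A] A'), Q.IsPrime ∧
      ∀ a', (1 : B) ⊗ₜ[A] a' ∈ Q ↔ a' ∈ p := by
    intro p hp hpP
    haveI := hp
    let K := p.ResidueField
    let g : A →+* K := algebraMap A K
    have hu : ∀ y : p₀.primeCompl, IsUnit (g y) := fun y => isUnit_iff_ne_zero.mpr fun h0 => y.2 (hpP (by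
      change algebraMap A K y = 0 at h0
      rwa [IsScalarTower.algebraMap_apply A A' K, Ideal.algebraMap_residueField_eq_zero] at h0))
    let f₁ : B →ₐ[A] K :=
      { IsLocalization.lift hu with commutes' := fun a => IsLocalization.lift_eq hu a }
    let f₂ : A' →ₐ[A] K := IsScalarTower.toAlgHom A A' K
    let φ : B ⊗[A] A' →ₐ[A] K := Algebra.TensorProduct.lift f₁ f₂ fun _ _ => .all _ _
    refine ⟨RingHom.ker φ, RingHom.ker_isPrime _, fun a' => ?_⟩
    rw [RingHom.mem_ker]
    show f₁ 1 * algebraMap A' K a' = 0 ↔ _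
    rw [map_one, one_mul]
    exact Ideal.algebraMap_residueField_eq_zero
  have hden : ∀ z : B ⊗[A] A', ∃ (a : A) (a' : A'), a ∉ p₀ ∧
      z * ((1 : B) ⊗ₜ[A] algebraMap A A' a) = (1 : B) ⊗ₜ[A] a' := by
    intro z
    induction z using TensorProduct.induction_on with
    | zero => exact ⟨1, 0, (inferInstance : p₀.IsPrime).one_notMem, by simp⟩
    | tmul b x =>
      obtain ⟨⟨a₀, a⟩, ha⟩ := IsLocalization.surj p₀.primeCompl b
      refine ⟨a, algebraMap A A' a₀ * x, a.2, ?_⟩
      rw [Algebra.TensorProduct.tmul_mul_tmul, mul_one, mul_comm x, ← Algebra.smul_def, ← Algebra.smul_def,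
        ← smul_tmul, ← smul_tmul, Algebra.smul_def, Algebra.smul_def, mul_one, mul_comm (algebraMap A B a) b]
      rw [show b * algebraMap A B a = algebraMap A B a₀ from ha]
    | add z w hz hw =>
      obtain ⟨a, a', ha, h1⟩ := hz
      obtain ⟨b, b', hb, h2⟩ := hw
      refine ⟨a * b, a' * algebraMap A A' b + b' * algebraMap A A' a, (inferInstance : p₀.IsPrime).mul_notMem ha hb, ?_⟩
      have e1 : z * ((1 : B) ⊗ₜ[A] algebraMap A A' (a * b)) = (1 : B) ⊗ₜ[A] (a' * algebraMap A A' b) := by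
        rw [map_mul, ← one_mul (1 : B), ← Algebra.TensorProduct.tmul_mul_tmul, ← mul_assoc, h1, one_mul,
          Algebra.TensorProduct.tmul_mul_tmul, one_mul]
      have e2 : w * ((1 : B) ⊗ₜ[A] algebraMap A A' (a * b)) = (1 : B) ⊗ₜ[A] (b' * algebraMap A A' a) := by
        rw [mul_comm a b, map_mul, ← one_mul (1 : B), ← Algebra.TensorProduct.tmul_mul_tmul, ← mul_assoc, h2, one_mul,
          Algebra.TensorProduct.tmul_mul_tmul, one_mul]
      rw [add_mul, e1, e2, tmul_add]
  obtain ⟨q, hq, hqP⟩ := hlift P inferInstance le_rfl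
  haveI := hq
  have hqm : q.comap (algebraMap B (B ⊗[A] A')) = IsLocalRing.maximalIdeal B := by
    ext b
    obtain ⟨⟨a₀, a⟩, ha⟩ := IsLocalization.surj p₀.primeCompl b
    have hua : IsUnit (algebraMap A B a) := IsLocalization.map_units B a
    have key : algebraMap B (B ⊗[A] A') (algebraMap A B a₀) ∈ q ↔ a₀ ∈ p₀ := by
      rw [Algebra.TensorProduct.algebraMap_apply, Algebra.algebraMap_self, RingHom.id_apply,
        Algebra.algebraMap_eq_smul_one a₀, smul_tmul, ← Algebra.algebraMap_eq_smul_one, hqP]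
      rfl
    rw [Ideal.mem_comap, ← IsLocalization.AtPrime.map_eq_maximalIdeal p₀ B]
    rw [← Ideal.mul_unit_mem_iff_mem _ (hua.map (algebraMap B (B ⊗[A] A'))), ← map_mul,
      ← Ideal.mul_unit_mem_iff_mem (p₀.map (algebraMap A B)) hua, ha, key]
    rw [IsLocalization.AtPrime.map_eq_maximalIdeal p₀ B, IsLocalization.AtPrime.to_map_mem_maximal_iff B p₀]
  obtain ⟨hg, -⟩ := S2730.result A A' hn B hb q hqm
  let L := Localization.AtPrime q
  haveI hnil : (nilradical L).IsPrime := nilradical_isPrime hg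
  let Q₀ : Ideal (B ⊗[A] A') := (nilradical L).comap (algebraMap _ L)
  haveI : Q₀.IsPrime := Ideal.comap_isPrime _ _
  have hQ₀ : ∀ Q : Ideal (B ⊗[A] A'), Q.IsPrime → Q ≤ q → Q₀ ≤ Q := by
    intro Q hQ hQq x hx
    obtain ⟨n, hn⟩ : IsNilpotent (algebraMap (B ⊗[A] A') L x) := hx
    rw [← map_pow, IsLocalization.map_eq_zero_iff q.primeCompl] at hn
    obtain ⟨s, hs⟩ := hn
    exact hQ.mem_of_pow_mem n (((hQ.mem_or_mem (hs ▸ Q.zero_mem)).resolve_left fun h => s.2 (hQq h)))
  refine ⟨Q₀.comap (Algebra.TensorProduct.includeRight (R := A) (A := B)).toRingHom, Ideal.comap_isPrime _ _,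
    fun x hx => ?_, fun p hp hpP x hx => ?_⟩
  · exact (hqP x).mp (hQ₀ q hq le_rfl hx)
  · obtain ⟨Q, hQ, hQp⟩ := hlift p hp hpP
    refine (hQp x).mp (hQ₀ Q hQ (fun z hz => ?_) hx)
    obtain ⟨a, a', ha, h⟩ := hden z
    have ha' : a' ∈ p := (hQp a').mp (h ▸ Q.mul_mem_right _ hz)
    have h2 : z * ((1 : B) ⊗ₜ[A] algebraMap A A' a) ∈ q := by
      rw [h]; exact (hqP a').mpr (hpP ha')
    exact (hq.mem_or_mem h2).resolve_right fun h3 => ha ((hqP _).mp h3)

/-- Over a locally Noetherian geometrically unibranch base, a point of an étale scheme has a most generic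
generalisation. -/
theorem exists_generic {S S' : Scheme.{u}} (f : S' ⟶ S) [Etale f] [IsLocallyNoetherian S]
    (hS : ∀ s : S, CAlg2.IsGeomUnibranch (S.presheaf.stalk s)) (x : S') :
    ∃ c : S', c ⤳ x ∧ ∀ z : S', z ⤳ x → c ⤳ z := by
  obtain ⟨U, hU, hxU, -⟩ := exists_isAffineOpen_mem_and_subset (show f x ∈ (⊤ : S.Opens) from trivial)
  obtain ⟨V, hV, hxV, hle⟩ := exists_isAffineOpen_mem_and_subset (show x ∈ f ⁻¹ᵁ U from hxU)
  haveI : IsLocallyNoetherian S' := LocallyOfFiniteType.isLocallyNoetherian f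
  haveI : IsNoetherianRing Γ(S, U) := IsLocallyNoetherian.component_noetherian ⟨U, hU⟩
  haveI : IsNoetherianRing Γ(S', V) := IsLocallyNoetherian.component_noetherian ⟨V, hV⟩
  have hn := S1469.result f V U hV hU hle
  letI : Algebra Γ(S, U) Γ(S', V) := (f.appLE U V hle).hom.toAlgebra
  let P : PrimeSpectrum Γ(S', V) := hV.primeIdealOf ⟨x, hxV⟩
  let p : PrimeSpectrum Γ(S, U) := PrimeSpectrum.comap (f.appLE U V hle).hom P
  have hp : hU.fromSpec p = f x := by
    have h1 : Spec.map (f.appLE U V hle) ≫ hU.fromSpec = hV.fromSpec ≫ f :=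
      IsAffineOpen.SpecMap_appLE_fromSpec f hU hV hle
    show hU.fromSpec (Spec.map (f.appLE U V hle) P) = f x
    rw [← Scheme.Hom.comp_apply, h1, Scheme.Hom.comp_apply]
    exact congrArg f (hV.fromSpec_primeIdealOf ⟨x, hxV⟩)
  have hpU : hU.fromSpec p ∈ U := hp.symm ▸ hxU
  letI : Algebra Γ(S, U) (S.presheaf.stalk (hU.fromSpec p)) :=
    TopCat.Presheaf.algebra_section_stalk S.presheaf ⟨hU.fromSpec p, hpU⟩
  haveI : IsLocalization.AtPrime (S.presheaf.stalk (hU.fromSpec p)) p.asIdeal := hU.isLocalization_stalk' p hpU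
  have hb : CAlg2.IsGeomUnibranch (Localization.AtPrime p.asIdeal) :=
    IntBC.isGeomUnibranch_of_branch (IntBC.Branch.of_ringEquiv
      (IsLocalization.algEquiv p.asIdeal.primeCompl (S.presheaf.stalk (hU.fromSpec p)) _).toRingEquiv
      (IntBC.branch_of_isGeomUnibranch (hS (hU.fromSpec p))))
  obtain ⟨c, hc, hcP, hcmin⟩ := exists_least_prime hn P.asIdeal hb
  have hPx : hV.fromSpec P = x := hV.fromSpec_primeIdealOf ⟨x, hxV⟩
  refine ⟨hV.fromSpec ⟨c, hc⟩, ?_, fun z hz => ?_⟩
  · rw [← hPx, hV.fromSpec.isOpenEmbedding.isInducing.specializes_iff]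
    exact (PrimeSpectrum.le_iff_specializes _ _).mp hcP
  · obtain ⟨q, rfl⟩ : z ∈ Set.range hV.fromSpec := by
      rw [hV.range_fromSpec]; exact hz.mem_open V.2 hxV
    rw [← hPx, hV.fromSpec.isOpenEmbedding.isInducing.specializes_iff] at hz
    rw [hV.fromSpec.isOpenEmbedding.isInducing.specializes_iff]
    exact (PrimeSpectrum.le_iff_specializes _ _).mp
      (hcmin q.asIdeal q.isPrime ((PrimeSpectrum.le_iff_specializes _ _).mpr hz))

end Groth.Agent.TwDescend
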