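import Groth.Agent.TwDescend.Const
import Groth.Agent.TwDescend.Unibranch
import Groth.Agent.GrpSchLib.TwConstClopen

/-!
# Connected components of a quasi-isotrivial twisted constant scheme over a geometrically unibranch base
-/

set_option autoImplicit false
set_option linter.style.haveILetI false
set_option backward.isDefEq.respectTransparency false
set_option backward.isDefEq.respectTransparency.types false

universe u

open CategoryTheory CategoryTheory.Limits AlgebraicGeometry TopologicalSpace

namespace Groth.Agent.TwDescend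

theorem locallyQuasiFinite_of_etale {T V : Scheme.{u}} (g : T ⟶ V) [Etale g] : LocallyQuasiFinite g := by
  rw [HasRingHomProperty.iff_appLE (P := @LocallyQuasiFinite)]
  intro U W e
  have h1 := HasRingHomProperty.appLE @FormallyUnramified g inferInstance U W e
  have h2 := HasRingHomProperty.appLE @LocallyOfFiniteType g inferInstance U W e
  algebraize [(g.appLE U.1 W.1 e).hom]
  have : Algebra.QuasiFinite Γ(V, U) Γ(T, W) := inferInstance
  exact this

/-- A twisted constant scheme has an étale chart at each of its points. -/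
theorem exists_chart {S : Scheme.{u}} (P : Over S) (hP : TwC.IsTwConst TwC.Topology.etale P) (x : P.left) :
    ∃ (S' : Scheme.{u}) (f : S' ⟶ S) (a : S' ⟶ P.left) (t : S'), Etale f ∧ Etale a ∧ a ≫ P.hom = f ∧ a t = x := by
  obtain ⟨S', f, hf, ⟨s', hs'⟩, I, ⟨e⟩⟩ := hP (P.hom x)
  obtain ⟨y, hy, -⟩ := Scheme.Pullback.exists_preimage_pullback (f := P.hom) (g := f) x s' hs'.symm
  let el : pullback P.hom f ≅ ∐ fun _ : I => S' := (Over.forget S').mapIso e
  have hel : el.hom ≫ (Sigma.desc fun _ : I => 𝟙 S') = pullback.snd P.hom f := Over.w e.hom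
  obtain ⟨⟨i, t⟩, ht⟩ := (sigmaMk fun _ : I => S').surjective (el.hom y)
  rw [sigmaMk_mk] at ht
  haveI := hf
  haveI : Etale (pullback.fst P.hom f) := MorphismProperty.pullback_fst (P := @Etale) _ _ hf
  refine ⟨S', f, Sigma.ι (fun _ : I => S') i ≫ el.inv ≫ pullback.fst P.hom f, t, hf, inferInstance, ?_, ?_⟩
  · have h2 : el.inv ≫ pullback.snd P.hom f = Sigma.desc fun _ : I => 𝟙 S' := by
      rw [← hel, Iso.inv_hom_id_assoc]
    simp only [Category.assoc, pullback.condition]
    rw [reassoc_of% h2, ← Category.assoc, Sigma.ι_desc, Category.id_comp]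
  · rw [Scheme.Hom.comp_apply, Scheme.Hom.comp_apply, ht, ← Scheme.Hom.comp_apply el.hom el.inv, el.hom_inv_id]
    exact hy

/-- Base change of a quasi-isotrivial twisted constant scheme. -/
theorem isTwConst_etale_bc {S T : Scheme.{u}} (g : T ⟶ S) (P : Over S)
    (hP : TwC.IsTwConst TwC.Topology.etale P) : TwC.IsTwConst TwC.Topology.etale (Red.bc g P) := by
  intro t
  obtain ⟨S', f, hf, ⟨s', hs'⟩, I, ⟨e⟩⟩ := hP (g t)
  obtain ⟨y, hy, -⟩ := Scheme.Pullback.exists_preimage_pullback (f := g) (g := f) t s' hs'.symm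
  exact ⟨pullback g f, pullback.fst g f, MorphismProperty.pullback_fst (P := @Etale) _ _ hf, ⟨y, hy⟩, I,
    ⟨ActBC.bcCompIso (pullback.fst g f) g P rfl ≪≫
      (ActBC.bcCompIso (pullback.snd g f) f P pullback.condition.symm).symm ≪≫
      (Over.pullback (pullback.snd g f)).mapIso e ≪≫ constBC (pullback.snd g f) I⟩⟩

/-- Over a locally Noetherian geometrically unibranch base the connected components of a quasi-isotrivial twisted
constant scheme are open and finite over the base. -/
theorem exists_finite_component {S : Scheme.{u}} [IsLocallyNoetherian S]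
    (hS : ∀ s : S, CAlg2.IsGeomUnibranch (S.presheaf.stalk s))
    (P : Over S) (hP : TwC.IsTwConst TwC.Topology.etale P) (x : P.left) :
    ∃ U : P.left.Opens, (U : Set P.left) = connectedComponent x ∧ IsFinite (U.ι ≫ P.hom) := by
  have hN : ∀ y : P.left, ∃ W ∈ nhds y, NoetherianSpace W := fun y => by
    obtain ⟨S', f, a, t, hf, ha, -, hat⟩ := exists_chart P hP y
    haveI := hf; haveI := ha
    haveI : IsLocallyNoetherian S' := LocallyOfFiniteType.isLocallyNoetherian f
    obtain ⟨A, hA, htA, -⟩ := exists_isAffineOpen_mem_and_subset (show t ∈ (⊤ : S'.Opens) from trivial)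
    haveI : IsNoetherianRing Γ(S', A) := IsLocallyNoetherian.component_noetherian ⟨A, hA⟩
    haveI : NoetherianSpace (A : Set S') := noetherianSpace_of_isAffineOpen A hA
    refine ⟨a '' (A : Set S'), (a.isOpenMap _ A.2).mem_nhds ⟨t, htA, hat⟩, ?_⟩
    have := NoetherianSpace.range (fun z : (A : Set S') => a z.1) (a.continuous.comp continuous_subtype_val)
    rwa [show Set.range (fun z : (A : Set S') => a z.1) = a '' (A : Set S') by
      ext; simp] at this
  have hgen : ∀ y : P.left, ∃ c : P.left, c ⤳ y ∧ ∀ z, z ⤳ y → c ⤳ z := fun y => by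
    obtain ⟨S', f, a, t, hf, ha, -, hat⟩ := exists_chart P hP y
    haveI := hf; haveI := ha
    obtain ⟨c, hc, hmin⟩ := exists_generic f hS t
    refine ⟨a c, hat ▸ hc.map a.continuous, fun z hz => ?_⟩
    obtain ⟨z', hz', rfl⟩ := Flat.generalizingMap a (hat.symm ▸ hz)
    exact (hmin z' hz').map a.continuous
  have hd : (irreducibleComponents P.left).PairwiseDisjoint id := by
    intro Z hZ Z' hZ' hne
    by_contra hd
    obtain ⟨y, hy, hy'⟩ := Set.not_disjoint_iff.1 hd
    obtain ⟨c, -, hmin⟩ := hgen y
    have key : ∀ W ∈ irreducibleComponents P.left, y ∈ W → W = closure {c} := fun W hW hyW => by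
      have hg := hW.1.isGenericPoint_genericPoint_closure
      rw [(isClosed_of_mem_irreducibleComponents W hW).closure_eq] at hg
      have hsub : W ⊆ closure {c} := hg.def.symm.le.trans
        (closure_minimal (Set.singleton_subset_iff.mpr
          (specializes_iff_mem_closure.mp (hmin _ (hg.specializes hyW)))) isClosed_closure)
      exact hsub.antisymm (hW.2 isIrreducible_singleton.closure hsub)
    exact hne ((key Z hZ hy).trans (key Z' hZ' hy').symm)
  have htf := H23.LocNoethTop.tfae hN
  have hopen := ((htf.out 0 3).mpr hd : ∀ Z ∈ irreducibleComponents P.left, IsOpen Z)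
  have hirr := ((htf.out 2 3).mpr hd : ∀ y : P.left, IsIrreducible (connectedComponent y))
  have hcomp : connectedComponent x ∈ irreducibleComponents P.left := by
    rw [((htf.out 1 3).mpr hd : irreducibleComponents (P.left : Type u) =
      Set.range (connectedComponent : P.left → Set P.left))]
    exact ⟨x, rfl⟩
  let U : P.left.Opens := ⟨connectedComponent x, hopen _ hcomp⟩
  refine ⟨U, rfl, ?_⟩
  -- the connected component of the image
  haveI : LocallyConnectedSpace S := H23.LocNoethTop.locallyConnectedSpace fun y => by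
    obtain ⟨A, hA, hyA, -⟩ := exists_isAffineOpen_mem_and_subset (show y ∈ (⊤ : S.Opens) from trivial)
    haveI : IsNoetherianRing Γ(S, A) := IsLocallyNoetherian.component_noetherian ⟨A, hA⟩
    exact ⟨A, A.2.mem_nhds hyA, noetherianSpace_of_isAffineOpen A hA⟩
  let S₀ : S.Opens := ⟨connectedComponent (P.hom x), isOpen_connectedComponent⟩
  haveI : ConnectedSpace (S₀ : Scheme.{u}) := isConnected_iff_connectedSpace.mp isConnected_connectedComponent
  haveI : IsClosedImmersion S₀.ι := .of_isPreimmersion _ (by rw [Scheme.Opens.range_ι]; exact isClosed_connectedComponent)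
  haveI : IsClosedImmersion U.ι := .of_isPreimmersion _ (by rw [Scheme.Opens.range_ι]; exact isClosed_connectedComponent)
  have hsub : Set.range (U.ι ≫ P.hom) ⊆ Set.range S₀.ι := by
    rw [Scheme.Opens.range_ι]
    rintro _ ⟨u, rfl⟩
    exact (isPreconnected_connectedComponent.image _ P.hom.continuous.continuousOn).subset_connectedComponent
      ⟨x, mem_connectedComponent, rfl⟩ ⟨U.ι u, u.2, rfl⟩
  let l : (U : Scheme.{u}) ⟶ S₀ := IsOpenImmersion.lift S₀.ι (U.ι ≫ P.hom) hsub
  have hl : l ≫ S₀.ι = U.ι ≫ P.hom := IsOpenImmersion.lift_fac _ _ _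
  haveI : IsLocallyNoetherian (S₀ : Scheme.{u}) := LocallyOfFiniteType.isLocallyNoetherian S₀.ι
  let z : (U : Scheme.{u}) ⟶ (Red.bc S₀.ι P).left := pullback.lift U.ι l hl.symm
  have hz : z ≫ pullback.fst P.hom S₀.ι = U.ι := pullback.lift_fst _ _ _
  haveI : IsOpenImmersion z := by
    haveI : IsOpenImmersion (z ≫ pullback.fst P.hom S₀.ι) := by rw [hz]; infer_instance
    exact IsOpenImmersion.of_comp z (pullback.fst P.hom S₀.ι)
  haveI : IsClosedImmersion z := by
    haveI : IsClosedImmersion (z ≫ pullback.fst P.hom S₀.ι) := by rw [hz]; infer_instance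
    exact IsClosedImmersion.of_comp z (pullback.fst P.hom S₀.ι)
  have hzl : z ≫ (Red.bc S₀.ι P).hom = l := pullback.lift_snd _ _ _
  -- the fibre over the image of the generic point
  have hc := (hirr x).isGenericPoint_genericPoint_closure
  rw [isClosed_connectedComponent.closure_eq] at hc
  let c : (U : Scheme.{u}) := ⟨(hirr x).genericPoint, hc.mem⟩
  have hfin : Set.Finite ((z ≫ (Red.bc S₀.ι P).hom) ⁻¹' {l c}) := by
    rw [hzl]
    refine (Set.finite_singleton c).subset fun u hu => ?_
    rw [Set.mem_singleton_iff]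
    apply U.ι.isOpenEmbedding.injective
    have hsp : U.ι c ⤳ U.ι u := hc.specializes u.2
    obtain ⟨S', f, a, t, hf, ha, haf, hat⟩ := exists_chart P hP (U.ι u)
    haveI := hf; haveI := ha
    obtain ⟨t', ht', hat'⟩ := Flat.generalizingMap a (hat.symm ▸ hsp)
    have he : f t' = f t := by
      rw [← haf, Scheme.Hom.comp_apply, Scheme.Hom.comp_apply, hat', hat, ← Scheme.Hom.comp_apply,
        ← Scheme.Hom.comp_apply, ← hl, Scheme.Hom.comp_apply, Scheme.Hom.comp_apply, show l u = l c from hu]
    haveI : LocallyQuasiFinite f := locallyQuasiFinite_of_etale f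
    haveI : DiscreteTopology (f ⁻¹' {f t}) := (f.isDiscrete_preimage_singleton (f t)).to_subtype
    have : (⟨t', he⟩ : f ⁻¹' {f t}) = ⟨t, rfl⟩ :=
      (Topology.IsInducing.subtypeVal.specializes_iff.mp (show (⟨t', he⟩ : f ⁻¹' {f t}).1 ⤳ (⟨t, rfl⟩ : f ⁻¹' {f t}).1 from ht')).eq
    have htt : t' = t := congrArg Subtype.val this
    rw [← hat, ← hat', htt]
  haveI : IsFinite l := hzl ▸ GrpSchLib.TwConstClopen.main (Red.bc S₀.ι P) (isTwConst_etale_bc S₀.ι P hP) z ⟨l c, hfin⟩
  rw [← hl]
  infer_instance

end Groth.Agent.TwDescend
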