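import Groth.Prelude.Def_TwC
import Groth.Prelude.Def_ActBC

/-!
# Descent of constancy along a covering whose self-product is connected

If an `S`-scheme `X` becomes constant over an fpqc covering `T ⟶ C` with `T ×_C T` connected, then it is constant.
-/

set_option autoImplicit false
set_option linter.style.haveILetI false
set_option backward.isDefEq.respectTransparency false
set_option backward.isDefEq.respectTransparency.types false

universe u

open CategoryTheory CategoryTheory.Limits AlgebraicGeometry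

namespace Groth.Agent.TwDescend

/-- Constant schemes pull back to constant schemes. -/
theorem isPullback_sigmaMap_desc {T S : Scheme.{u}} (g : T ⟶ S) (I : Type u) :
    IsPullback (Limits.Sigma.map fun _ : I => g) (Sigma.desc fun _ : I => 𝟙 T)
      (Sigma.desc fun _ : I => 𝟙 S) g := by
  have hw : (Limits.Sigma.map fun _ : I => g) ≫ (Sigma.desc fun _ : I => 𝟙 S) =
      (Sigma.desc fun _ : I => 𝟙 T) ≫ g := Sigma.hom_ext _ _ fun i => by simp
  let P := pullback (Sigma.desc fun _ : I => 𝟙 S) g
  let k : (∐ fun _ : I => T) ⟶ P := pullback.lift _ _ hw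
  let α : I → (T ⟶ P) := fun i => Sigma.ι (fun _ : I => T) i ≫ k
  have hfst : ∀ i, α i ≫ pullback.fst _ _ = g ≫ Sigma.ι (fun _ : I => S) i := fun i => by simp [α, k]
  have hsnd : ∀ i, α i ≫ pullback.snd _ _ = 𝟙 T := fun i => by simp [α, k]
  have hsq : ∀ i, IsPullback g (α i) (Sigma.ι (fun _ : I => S) i) (pullback.fst _ _) := fun i => by
    refine IsPullback.of_bot ?_ (hfst i).symm (IsPullback.of_hasPullback (Sigma.desc fun _ : I => 𝟙 S) g)
    rw [hsnd i, Sigma.ι_desc]
    exact IsPullback.of_vert_isIso ⟨by simp⟩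
  haveI : ∀ i, IsOpenImmersion (α i) := fun i =>
    MorphismProperty.of_isPullback (P := @IsOpenImmersion) (hsq i) inferInstance
  obtain ⟨hc⟩ := nonempty_isColimit_cofanMk_of α (by
    refine eq_top_iff.mpr fun z _ => ?_
    obtain ⟨⟨i, y⟩, hy⟩ := (sigmaMk fun _ : I => S).surjective ((pullback.fst _ _ : P ⟶ _) z)
    rw [sigmaMk_mk] at hy
    obtain ⟨x, hx1, -⟩ := Scheme.Pullback.exists_preimage_pullback (f := (pullback.fst _ _ : P ⟶ _))
      (g := Sigma.ι (fun _ : I => S) i) z y hy.symm
    refine TopologicalSpace.Opens.mem_iSup.mpr ⟨i, (hsq i).flip.isoPullback.inv x, ?_⟩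
    rw [← Scheme.Hom.comp_apply, (hsq i).flip.isoPullback_inv_fst]
    exact hx1) (fun i j hij => by
      rw [Function.onFun_apply, ← TopologicalSpace.Opens.coe_disjoint, Set.disjoint_iff_forall_ne]
      rintro _ ⟨x, rfl⟩ _ ⟨y, rfl⟩ e
      have hpt : ∀ i' x', (pullback.fst (Sigma.desc fun _ : I => 𝟙 S) g) (α i' x') =
          Sigma.ι (fun _ : I => S) i' (g x') := fun i' x' => by
        rw [← Scheme.Hom.comp_apply, hfst, Scheme.Hom.comp_apply]
      have e' := (hpt i x).symm.trans ((congrArg (pullback.fst (Sigma.desc fun _ : I => 𝟙 S) g) e).trans (hpt j y))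
      exact hij (congrArg Sigma.fst ((sigmaι_eq_iff _ _ _ _ _).mp e')))
  have hk : k = Sigma.desc α := Sigma.hom_ext _ _ fun i => by simp [α]
  haveI : IsIso k := by
    rw [hk]
    exact (Cofan.nonempty_isColimit_iff_isIso_sigmaDesc (Cofan.mk P α)).mp ⟨hc⟩
  exact IsPullback.of_iso_pullback ⟨hw⟩ (asIso k) (pullback.lift_fst _ _ _) (pullback.lift_snd _ _ _)

/-- The base change of a constant scheme is constant. -/
noncomputable def constBC {T S : Scheme.{u}} (g : T ⟶ S) (I : Type u) :
    Red.bc g (TwC.const S I) ≅ TwC.const T I :=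
  Over.isoMk (isPullback_sigmaMap_desc g I).isoPullback.symm (by
    exact (isPullback_sigmaMap_desc g I).isoPullback_inv_snd)

/-- A point of a constant scheme with connected source has a single index. -/
theorem exists_index {Y S : Scheme.{u}} [PreconnectedSpace Y] [Nonempty Y] (I : Type u)
    (h : Y ⟶ ∐ fun _ : I => S) :
    ∃ i, h = (h ≫ Sigma.desc fun _ : I => 𝟙 S) ≫ Sigma.ι (fun _ : I => S) i := by
  obtain ⟨y₀⟩ := ‹Nonempty Y›
  obtain ⟨⟨i, x⟩, hx⟩ := (sigmaMk fun _ : I => S).surjective (h y₀)
  rw [sigmaMk_mk] at hx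
  let R := Set.range (Sigma.ι (fun _ : I => S) i)
  have hR : IsClopen R := by
    refine ⟨⟨?_⟩, (Sigma.ι (fun _ : I => S) i).isOpenEmbedding.isOpen_range⟩
    have he : Rᶜ = ⋃ j ∈ {j | j ≠ i}, Set.range (Sigma.ι (fun _ : I => S) j) := by
      ext z
      obtain ⟨⟨j, w⟩, rfl⟩ := (sigmaMk fun _ : I => S).surjective z
      rw [sigmaMk_mk]
      constructor
      · intro hz
        refine Set.mem_iUnion₂.mpr ⟨j, fun hji => hz ?_, w, rfl⟩
        subst hji
        exact ⟨w, rfl⟩
      · rintro hz ⟨w', hw'⟩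
        obtain ⟨j', hj', w'', hw''⟩ := Set.mem_iUnion₂.mp hz
        exact hj' (congrArg Sigma.fst ((sigmaι_eq_iff _ _ _ _ _).mp (hw''.trans hw'.symm)))
    rw [he]
    exact isOpen_biUnion fun j _ => (Sigma.ι (fun _ : I => S) j).isOpenEmbedding.isOpen_range
  have hsub : Set.range h ⊆ R := by
    rintro _ ⟨y, rfl⟩
    have := (hR.preimage h.continuous).eq_univ ⟨y₀, x, hx⟩
    exact (Set.ext_iff.mp this y).mpr trivial
  refine ⟨i, ?_⟩
  have hl := IsOpenImmersion.lift_fac (Sigma.ι (fun _ : I => S) i) h hsub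
  have hl' : IsOpenImmersion.lift (Sigma.ι (fun _ : I => S) i) h hsub = h ≫ Sigma.desc fun _ : I => 𝟙 S := by
    conv_rhs => rw [← hl, Category.assoc, Sigma.ι_desc, Category.comp_id]
  rw [← hl', hl]

/-- Descent of constancy along an fpqc covering with preconnected self-product. -/
theorem nonempty_iso_const {C T : Scheme.{u}} (X : Over C) (p : T ⟶ C) [Flat p] [Surjective p] [QuasiCompact p]
    [PreconnectedSpace ↥(pullback p p)] [Nonempty T] (I : Type u) (e : Red.bc p X ≅ TwC.const T I) :
    Nonempty (X ≅ TwC.const C I) := by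
  let el : pullback X.hom p ≅ (∐ fun _ : I => T) := (Over.forget T).mapIso e
  have hel : el.hom ≫ (Sigma.desc fun _ : I => 𝟙 T) = pullback.snd X.hom p := Over.w e.hom
  let q := pullback.fst X.hom p
  let a : pullback X.hom p ⟶ ∐ fun _ : I => C := el.hom ≫ Limits.Sigma.map fun _ : I => p
  have ha : a ≫ (Sigma.desc fun _ : I => 𝟙 C) = q ≫ X.hom := by
    rw [show a = el.hom ≫ _ from rfl, Category.assoc, (isPullback_sigmaMap_desc p I).w, ← Category.assoc, hel,
      pullback.condition]
  haveI : Flat q := MorphismProperty.pullback_fst (P := @Flat) _ _ inferInstance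
  haveI : Surjective q := MorphismProperty.pullback_fst (P := @Surjective) _ _ inferInstance
  haveI : QuasiCompact q := MorphismProperty.pullback_fst (P := @QuasiCompact) _ _ inferInstance
  have hcond : ∀ {Z : Scheme.{u}} (g₁ g₂ : Z ⟶ pullback X.hom p), g₁ ≫ q = g₂ ≫ q → g₁ ≫ a = g₂ ≫ a := by
    intro Z g₁ g₂ hg
    have hb : ∀ i : I, (pullback.fst p p ≫ Sigma.ι (fun _ : I => T) i ≫ el.inv ≫ q) ≫ X.hom =
        pullback.snd p p ≫ p := fun i => by
      have hinv : el.inv ≫ q ≫ X.hom = (Sigma.desc fun _ : I => 𝟙 T) ≫ p := by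
        rw [show q ≫ X.hom = pullback.snd X.hom p ≫ p from pullback.condition, ← hel]
        simp
      simp [hinv, pullback.condition]
    let b : I → (pullback p p ⟶ pullback X.hom p) := fun i => pullback.lift _ _ (hb i)
    haveI : Nonempty ↥(pullback p p) :=
      ⟨pullback.diagonal p (Classical.arbitrary T)⟩
    have hkey : ∀ i : I, b i ≫ a = (pullback.fst p p ≫ p) ≫ Sigma.ι (fun _ : I => C) i := by
      intro i
      obtain ⟨j, hj⟩ := exists_index I (b i ≫ a)
      have hs : (b i ≫ a) ≫ (Sigma.desc fun _ : I => 𝟙 C) = pullback.fst p p ≫ p := by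
        rw [Category.assoc, ha, show q ≫ X.hom = pullback.snd X.hom p ≫ p from pullback.condition,
          ← Category.assoc, pullback.lift_snd, pullback.condition]
      rw [hs] at hj
      have hd : pullback.diagonal p ≫ b i = Sigma.ι (fun _ : I => T) i ≫ el.inv := by
        apply pullback.hom_ext
        · simp [b, q]
        · rw [Category.assoc, pullback.lift_snd, pullback.diagonal_snd, Category.assoc, ← hel]
          simp
      have h1 := congrArg (pullback.diagonal p ≫ ·) hj
      simp only [← Category.assoc, hd, pullback.diagonal_fst, Category.id_comp] at h1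
      simp only [a, Category.assoc, Iso.inv_hom_id_assoc, Sigma.ι_map] at h1
      have t := Classical.arbitrary T
      have h2 := congrArg (fun φ : T ⟶ ∐ fun _ : I => C => φ t) h1
      simp only [Scheme.Hom.comp_apply] at h2
      obtain rfl : i = j := congrArg Sigma.fst ((sigmaι_eq_iff _ _ _ _ _).mp h2)
      exact hj
    refine Scheme.Cover.hom_ext ((sigmaOpenCover fun _ : I => T).pullback₁ (g₁ ≫ el.hom)) _ _ fun i => ?_
    let c := pullback.fst (g₁ ≫ el.hom) ((sigmaOpenCover fun _ : I => T).f i)
    let c' := pullback.snd (g₁ ≫ el.hom) ((sigmaOpenCover fun _ : I => T).f i)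
    show c ≫ g₁ ≫ a = c ≫ g₂ ≫ a
    have hc : c ≫ g₁ = c' ≫ Sigma.ι (fun _ : I => T) i ≫ el.inv := by
      rw [← cancel_mono el.hom]
      simp only [Category.assoc, Iso.inv_hom_id, Category.comp_id]
      exact pullback.condition
    have hm : c' ≫ p = (c ≫ g₂ ≫ pullback.snd X.hom p) ≫ p := by
      have h2 := congrArg (fun φ : Z ⟶ X.left => c ≫ φ ≫ X.hom) hg
      simp only [Category.assoc] at h2
      rw [show q ≫ X.hom = pullback.snd X.hom p ≫ p from pullback.condition, reassoc_of% hc] at h2
      simp only [Category.assoc]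
      rw [← h2, ← hel]
      simp
    let m : _ ⟶ pullback p p := pullback.lift _ _ hm
    have h2 : c ≫ g₂ = m ≫ b i := by
      apply pullback.hom_ext
      · simp only [Category.assoc]
        rw [pullback.lift_fst, pullback.lift_fst_assoc, show g₂ ≫ pullback.fst X.hom p = g₁ ≫ q from hg.symm,
          reassoc_of% hc]
      · simp [b, m]
    rw [reassoc_of% hc, reassoc_of% h2, hkey]
    simp [a, m]
  let φl : X.left ⟶ ∐ fun _ : I => C := EffectiveEpi.desc q a fun g₁ g₂ h => hcond g₁ g₂ h
  have hφl : q ≫ φl = a := EffectiveEpi.fac q a _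
  have hφ : φl ≫ (Sigma.desc fun _ : I => 𝟙 C) = X.hom := by
    rw [← cancel_epi q, ← Category.assoc, hφl, ha]
  have hpb := isPullback_sigmaMap_desc p I
  have hsq : IsPullback q el.hom φl (Limits.Sigma.map fun _ : I => p) := by
    refine IsPullback.of_bot ?_ hφl hpb
    rw [hel, hφ]
    exact IsPullback.of_hasPullback _ _
  haveI : IsIso φl := by
    show MorphismProperty.isomorphisms Scheme.{u} φl
    refine MorphismProperty.of_isPullback_of_descendsAlong (Q := @Surjective ⊓ @Flat ⊓ @QuasiCompact) hsq.flip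
      ⟨⟨?_, ?_⟩, ?_⟩ (inferInstance : IsIso el.hom)
    · exact MorphismProperty.of_isPullback (P := @Surjective) hpb.flip inferInstance
    · exact MorphismProperty.of_isPullback (P := @Flat) hpb.flip inferInstance
    · exact MorphismProperty.of_isPullback (P := @QuasiCompact) hpb.flip inferInstance
  exact ⟨Over.isoMk (asIso φl) hφ⟩

end Groth.Agent.TwDescend
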