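import Groth.Agent.TwDescend.Const
import Groth.Agent.HTopCov.Points
import Mathlib.AlgebraicGeometry.Morphisms.LocalFlatDescent
import Mathlib.RingTheory.Flat.TorsionFree

/-!
# Quasi-isotrivial twisted constant schemes are separated, étale, and satisfy the valuative criterion
-/

set_option autoImplicit false
set_option linter.style.haveILetI false
set_option backward.isDefEq.respectTransparency false
set_option backward.isDefEq.respectTransparency.types false

universe u

open CategoryTheory CategoryTheory.Limits AlgebraicGeometry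

namespace Groth.Agent.TwDescend

/-- A coproduct of separated schemes over a base is separated. -/
theorem isSeparated_sigmaDesc {S : Scheme.{u}} {ι : Type u} {U : ι → Scheme.{u}} (f : ∀ i, U i ⟶ S) (hf : ∀ i, IsSeparated (f i)) :
    IsSeparated (Sigma.desc f) := by
  let F := Sigma.desc f
  refine ⟨IsClosedImmersion.of_isPreimmersion (pullback.diagonal F) ?_⟩
  rw [← isOpen_compl_iff, isOpen_iff_forall_mem_open]
  intro z hz
  obtain ⟨⟨i, a⟩, ha⟩ := (sigmaMk U).surjective (pullback.fst F F z)
  obtain ⟨⟨j, b⟩, hb⟩ := (sigmaMk U).surjective (pullback.snd F F z)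
  rw [sigmaMk_mk] at ha hb
  let Oi : (∐ U).Opens := (Sigma.ι U i).opensRange
  let Oj : (∐ U).Opens := (Sigma.ι U j).opensRange
  by_cases hij : i = j
  · subst hij
    let m := pullback.map (f i) (f i) F F (Sigma.ι U i) (Sigma.ι U i) (𝟙 S)
      (by rw [Category.comp_id, Sigma.ι_desc]) (by rw [Category.comp_id, Sigma.ι_desc])
    have : IsOpenImmersion m := inferInstance
    have hm : Sigma.ι U i ≫ pullback.diagonal F = pullback.diagonal (f i) ≫ m := by
      apply pullback.hom_ext <;> simp [m]
    obtain ⟨w, hw⟩ : z ∈ Set.range m := by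
      rw [Scheme.Pullback.range_map]
      exact ⟨⟨a, ha⟩, ⟨b, hb⟩⟩
    have := hf i
    refine ⟨m '' (Set.range (pullback.diagonal (f i)))ᶜ, ?_,
      m.isOpenEmbedding.isOpenMap _ (pullback.diagonal (f i)).isClosedEmbedding.isClosed_range.isOpen_compl,
      w, fun ⟨v, hv⟩ => hz ⟨Sigma.ι U i v, ?_⟩, hw⟩
    · rintro _ ⟨w', hw', rfl⟩ ⟨x, hx⟩
      apply hw'
      have hx1 : pullback.fst F F (m w') = x := by
        rw [← hx, ← Scheme.Hom.comp_apply, pullback.diagonal_fst]; rfl
      have hx2 : Sigma.ι U i (pullback.fst (f i) (f i) w') = x := by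
        rw [← hx1, ← Scheme.Hom.comp_apply, ← Scheme.Hom.comp_apply, pullback.lift_fst]
      refine ⟨pullback.fst (f i) (f i) w', m.isOpenEmbedding.injective ?_⟩
      rw [← Scheme.Hom.comp_apply, ← hm, Scheme.Hom.comp_apply, hx2, hx]
    · rw [← hw, ← hv, ← Scheme.Hom.comp_apply, hm, Scheme.Hom.comp_apply]
  · refine ⟨(pullback.fst F F ⁻¹' (Oi : Set ↥(∐ U))) ∩ (pullback.snd F F ⁻¹' (Oj : Set ↥(∐ U))), ?_,
      (Oi.2.preimage (pullback.fst F F).continuous).inter (Oj.2.preimage (pullback.snd F F).continuous),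
      ⟨a, ha⟩, ⟨b, hb⟩⟩
    rintro _ ⟨⟨a', ha'⟩, ⟨b', hb'⟩⟩ ⟨x, rfl⟩
    have hx1 : pullback.fst F F (pullback.diagonal F x) = x := by
      rw [← Scheme.Hom.comp_apply, pullback.diagonal_fst]; rfl
    have hx2 : pullback.snd F F (pullback.diagonal F x) = x := by
      rw [← Scheme.Hom.comp_apply, pullback.diagonal_snd]; rfl
    have h1 : Sigma.ι U i a' = Sigma.ι U j b' := (ha'.trans hx1).trans (hb'.trans hx2).symm
    exact hij (congrArg Sigma.fst ((sigmaMk U).injective (a₁ := ⟨i, a'⟩) (a₂ := ⟨j, b'⟩)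
      (by rw [sigmaMk_mk, sigmaMk_mk]; exact h1)))

/-- A quasi-isotrivial twisted constant scheme is étale and separated. -/
theorem isSeparated_etale {S : Scheme.{u}} (X : Over S) (hX : TwC.IsTwConst TwC.Topology.etale X) :
    IsSeparated X.hom ∧ Etale X.hom := by
  choose S' f hf hs I he using hX
  haveI := hf
  let p : ∐ S' ⟶ S := Sigma.desc f
  haveI hp : Etale p := IsZariskiLocalAtSource.sigmaDesc fun s => hf s
  haveI : Surjective p := ⟨fun s => by
    obtain ⟨s', hs'⟩ := hs s
    refine ⟨Sigma.ι S' s s', ?_⟩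
    rw [← Scheme.Hom.comp_apply, Sigma.ι_desc]
    exact hs'⟩
  have hW : (@Surjective ⊓ @Flat ⊓ @LocallyOfFinitePresentation : MorphismProperty Scheme.{u}) p :=
    ⟨⟨inferInstance, inferInstance⟩, inferInstance⟩
  have key : ∀ (P : MorphismProperty Scheme.{u}), IsZariskiLocalAtTarget P →
      (∀ (T : Scheme.{u}) (J : Type u), P (Sigma.desc fun _ : J => 𝟙 T)) → P (pullback.snd X.hom p) := by
    intro P hP hc
    haveI := hP
    refine IsZariskiLocalAtTarget.of_openCover (sigmaOpenCover S') fun s => ?_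
    obtain ⟨e⟩ := he s
    let el : pullback X.hom (f s) ≅ ∐ fun _ : I s => S' s := (Over.forget (S' s)).mapIso e
    have hel : el.hom ≫ (Sigma.desc fun _ : I s => 𝟙 (S' s)) = pullback.snd X.hom (f s) := Over.w e.hom
    have h1 : P (pullback.snd X.hom (f s)) := by
      rw [← hel, P.cancel_left_of_respectsIso]
      exact hc _ _
    have h2 : Sigma.ι S' s ≫ p = f s := Sigma.ι_desc _ _
    change P (pullback.snd (pullback.snd X.hom p) (Sigma.ι S' s))
    have sq := (IsPullback.of_hasPullback (pullback.snd X.hom p) (Sigma.ι S' s)).paste_horiz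
      (IsPullback.of_hasPullback X.hom p)
    rw [h2] at sq
    rw [← sq.isoPullback_hom_snd, P.cancel_left_of_respectsIso]
    exact h1
  have he' : Etale X.hom := MorphismProperty.of_pullback_snd_of_descendsAlong (P := @Etale)
    (Q := @Surjective ⊓ @Flat ⊓ @LocallyOfFinitePresentation) hW
    (key @Etale inferInstance fun T J => IsZariskiLocalAtSource.sigmaDesc fun _ => inferInstance)
  refine ⟨?_, he'⟩
  have hsep : IsSeparated (pullback.snd X.hom p) :=
    key @IsSeparated inferInstance fun T J => isSeparated_sigmaDesc _ fun _ => inferInstance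
  have huc : MorphismProperty.diagonal (@UniversallyClosed : MorphismProperty Scheme.{u}) (pullback.snd X.hom p) := by
    change UniversallyClosed _
    infer_instance
  have hd : UniversallyClosed (pullback.diagonal X.hom) :=
    MorphismProperty.of_pullback_snd_of_descendsAlong
      (P := MorphismProperty.diagonal (@UniversallyClosed : MorphismProperty Scheme.{u}))
      (Q := @Surjective ⊓ @Flat ⊓ @LocallyOfFinitePresentation) hW huc
  exact ⟨IsClosedImmersion.of_isPreimmersion _ (pullback.diagonal X.hom).isClosedMap.isClosed_range⟩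

/-- If an element of the fraction field of a valuation ring becomes, in the fraction field of an extension of valuation
rings, an element of the extension, then it lies in the valuation ring. -/
theorem mem_range_of_ext {R W K L : Type u} [CommRing R] [IsDomain R] [ValuationRing R] [CommRing W] [Field K]
    [Field L] [Algebra R K] [IsFractionRing R K] [Algebra W L] [FaithfulSMul W L] (φ : R →+* W) [IsLocalHom φ]
    (ψ : K →+* L) (hψ : ∀ r, ψ (algebraMap R K r) = algebraMap W L (φ r)) (x : K) (w : W)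
    (hx : ψ x = algebraMap W L w) : x ∈ (algebraMap R K).range := by
  rcases ValuationRing.isInteger_or_isInteger R x with h | h
  · exact h
  · obtain ⟨r, hr⟩ := h
    rcases eq_or_ne x 0 with rfl | hx0
    · exact ⟨0, map_zero _⟩
    have h1 : φ r * w = 1 := by
      apply FaithfulSMul.algebraMap_injective W L
      rw [map_mul, map_one, ← hψ, hr, ← hx, ← map_mul, inv_mul_cancel₀ hx0, map_one]
    obtain ⟨u, hu⟩ := isUnit_of_map_unit φ r (IsUnit.of_mul_eq_one _ h1)
    refine ⟨↑u⁻¹, ?_⟩
    rw [map_units_inv, hu, hr, inv_inv]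

/-- The existence part of the valuative criterion. -/
theorem existence {S : Scheme.{u}} (X : Over S) (hX : TwC.IsTwConst TwC.Topology.etale X) :
    ValuativeCriterion.Existence X.hom := by
  intro Sq
  obtain ⟨R, K, i₁, i₂, ⟨w⟩⟩ := Sq
  haveI : IsDomain (CommRingCat.of R) := ‹_›
  haveI : ValuationRing (CommRingCat.of R) := ‹_›
  obtain ⟨S', f, hf, ⟨s', hs'⟩, I, ⟨e⟩⟩ := hX (i₂ (IsLocalRing.closedPoint R))
  haveI := hf
  let E : PreZeroHypercover.{u} S := ⟨PUnit, fun _ => S', fun _ => f⟩
  obtain ⟨W, hW, hW', φ, l', hφ, hl', -⟩ := HTopCov.exists_lift_of_flat (E := E)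
    (fun _ => show Flat f from inferInstance) (CommRingCat.of R) i₂ (j := PUnit.unit) s' hs'
  change l' ≫ f = _ at hl'
  haveI : IsLocalHom φ.hom := hφ.2
  let L := FractionRing W
  have hinj : Function.Injective ((algebraMap W L).comp φ.hom) :=
    (IsFractionRing.injective W L).comp hφ.1
  let ψ : K →+* L := IsFractionRing.lift hinj
  have hψ : ∀ r, ψ (algebraMap R K r) = algebraMap W L (φ.hom r) := fun r =>
    IsFractionRing.lift_algebraMap hinj r
  have hψ' : Spec.map (CommRingCat.ofHom (algebraMap W L)) ≫ Spec.map φ =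
      Spec.map (CommRingCat.ofHom ψ) ≫ Spec.map (CommRingCat.ofHom (algebraMap R K)) := by
    rw [← Spec.map_comp, ← Spec.map_comp]
    congr 1
    ext r
    exact (hψ r).symm
  let el : pullback X.hom f ≅ ∐ fun _ : I => S' := (Over.forget S').mapIso e
  have hel : el.hom ≫ (Sigma.desc fun _ : I => 𝟙 S') = pullback.snd X.hom f := Over.w e.hom
  have hel' : el.inv ≫ pullback.snd X.hom f = Sigma.desc fun _ : I => 𝟙 S' := by
    rw [← hel, Iso.inv_hom_id_assoc]
  let a : Spec (CommRingCat.of L) ⟶ pullback X.hom f :=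
    pullback.lift (Spec.map (CommRingCat.ofHom ψ) ≫ i₁) (Spec.map (CommRingCat.ofHom (algebraMap W L)) ≫ l') (by
      rw [Category.assoc, w, Category.assoc, hl', reassoc_of% hψ'])
  obtain ⟨i, hi⟩ := exists_index I (a ≫ el.hom)
  rw [Category.assoc a el.hom, hel, pullback.lift_snd, Category.assoc] at hi
  let c : Spec W ⟶ X.left := l' ≫ Sigma.ι (fun _ : I => S') i ≫ el.inv ≫ pullback.fst X.hom f
  have hc₁ : c ≫ X.hom = Spec.map φ ≫ i₂ := by
    simp only [c, Category.assoc, pullback.condition]
    rw [reassoc_of% hel', Sigma.ι_desc_assoc, Category.id_comp, hl']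
  have hc₂ : Spec.map (CommRingCat.ofHom (algebraMap W L)) ≫ c = Spec.map (CommRingCat.ofHom ψ) ≫ i₁ := by
    have : a = Spec.map (CommRingCat.ofHom (algebraMap W L)) ≫ l' ≫ Sigma.ι (fun _ : I => S') i ≫ el.inv := by
      rw [← cancel_mono el.hom, hi]
      simp
    rw [← pullback.lift_fst (f := X.hom) (g := f) (Spec.map (CommRingCat.ofHom ψ) ≫ i₁)
      (Spec.map (CommRingCat.ofHom (algebraMap W L)) ≫ l') (by rw [Category.assoc, w, Category.assoc, hl', reassoc_of% hψ'])]
    change _ = a ≫ _
    rw [this]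
    simp [c]
  obtain ⟨V, hV, hmem, -⟩ := exists_isAffineOpen_mem_and_subset
    (show c (IsLocalRing.closedPoint W) ∈ (⊤ : X.left.Opens) from trivial)
  obtain ⟨c', hc'⟩ := HTopCov.exists_lift_of_closedPoint hV.fromSpec c (by rw [hV.range_fromSpec]; exact hmem)
  have hsub : Set.range i₁ ⊆ Set.range hV.fromSpec := by
    rintro _ ⟨z, rfl⟩
    let z' : Spec (CommRingCat.of L) := (⊥ : PrimeSpectrum L)
    have hz : (Spec.map (CommRingCat.ofHom ψ)) z' = z := Subsingleton.elim _ _
    refine ⟨c' ((Spec.map (CommRingCat.ofHom (algebraMap W L))) z'), ?_⟩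
    rw [← Scheme.Hom.comp_apply, hc', ← hz, ← Scheme.Hom.comp_apply (Spec.map (CommRingCat.ofHom ψ)) i₁, ← hc₂]
    rfl
  let i₁' := IsOpenImmersion.lift hV.fromSpec i₁ hsub
  have hi₁' : i₁' ≫ hV.fromSpec = i₁ := IsOpenImmersion.lift_fac _ _ _
  let α := Spec.preimage c'
  let β := Spec.preimage i₁'
  have hαβ : α ≫ CommRingCat.ofHom (algebraMap W L) = β ≫ CommRingCat.ofHom ψ := by
    apply Spec.map_injective
    rw [Spec.map_comp, Spec.map_comp, Spec.map_preimage, Spec.map_preimage, ← cancel_mono hV.fromSpec,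
      Category.assoc, Category.assoc, hc', hi₁', hc₂]
  have hαβ' : ∀ x, ψ (β.hom x) = algebraMap W L (α.hom x) := fun x =>
    (ConcreteCategory.congr_hom hαβ x).symm
  have hmemR : ∀ x, β.hom x ∈ (algebraMap R K).range := fun x =>
    mem_range_of_ext φ.hom ψ hψ _ _ (hαβ' x)
  let e' : R ≃+* (algebraMap R K).range := RingEquiv.ofBijective (algebraMap R K).rangeRestrict
    ⟨fun x y h => IsFractionRing.injective R K (congrArg Subtype.val h), (algebraMap R K).rangeRestrict_surjective⟩
  let γ : Γ(X.left, V) →+* R := e'.symm.toRingHom.comp (β.hom.codRestrict _ hmemR)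
  have hγ : ∀ x, algebraMap R K (γ x) = β.hom x := fun x =>
    congrArg Subtype.val (e'.apply_symm_apply ⟨β.hom x, hmemR x⟩)
  have hγφ : CommRingCat.ofHom γ ≫ φ = α := by
    ext x
    apply IsFractionRing.injective W L
    exact ((hψ (γ x)).symm.trans (congrArg ψ (hγ x))).trans (hαβ' x)
  refine ⟨⟨⟨Spec.map (CommRingCat.ofHom γ) ≫ hV.fromSpec, ?_, ?_⟩⟩⟩
  · change Spec.map (CommRingCat.ofHom (algebraMap R K)) ≫ _ = i₁
    have h : CommRingCat.ofHom γ ≫ CommRingCat.ofHom (algebraMap R K) = β := by
      ext x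
      exact hγ x
    rw [← Category.assoc, ← Spec.map_comp, h, Spec.map_preimage, hi₁']
  · have hflat : φ.hom.Flat := by
      algebraize [φ.hom]
      haveI : Module.IsTorsionFree (CommRingCat.of R) W := Module.isTorsionFree_iff_faithfulSMul.mpr
        (faithfulSMul_iff_algebraMap_injective _ _ |>.mpr hφ.1)
      exact Module.Flat.flat_iff_torsion_eq_bot_of_isBezout.mpr (Submodule.isTorsionFree_iff_torsion_eq_bot.mp ‹_›)
    haveI : Flat (Spec.map φ) := HasRingHomProperty.Spec_iff.mpr hflat
    haveI : Surjective (Spec.map φ) := ⟨fun x => by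
      algebraize [φ.hom]
      haveI : Module.FaithfullyFlat (CommRingCat.of R) W := Module.FaithfullyFlat.of_flat_of_isLocalHom
      exact PrimeSpectrum.comap_surjective_of_faithfullyFlat x⟩
    haveI : Epi (Spec.map φ) := Flat.epi_of_flat_of_surjective _
    rw [← cancel_epi (Spec.map φ), ← Category.assoc, ← Category.assoc, ← Spec.map_comp, hγφ,
      Spec.map_preimage, hc', hc₁]

theorem result {S : Scheme.{u}} (X : Over S) (hX : TwC.IsTwConst TwC.Topology.etale X) :
    IsSeparated X.hom ∧ Etale X.hom ∧ ValuativeCriterion X.hom := by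
  obtain ⟨h1, h2⟩ := isSeparated_etale X hX
  exact ⟨h1, h2, ValuativeCriterion.iff.mpr ⟨existence X hX, IsSeparated.valuativeCriterion X.hom⟩⟩

end Groth.Agent.TwDescend
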