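import Groth.Agent.TwDescend.Valuative
import Groth.Agent.TwDescend.Components
import Groth.Agent.GrpSchLib.TwConstClosed
import Groth.Agent.IntBC.Branch
import Groth.Agent.S2755
import Groth.Agent.H23.RedSub

/-!
# Quasi-isotrivial twisted constant schemes over an irreducible geometrically unibranch base
-/

set_option autoImplicit false
set_option linter.style.haveILetI false
set_option backward.isDefEq.respectTransparency false
set_option backward.isDefEq.respectTransparency.types false

universe u

open CategoryTheory CategoryTheory.Limits AlgebraicGeometry TopologicalSpace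

namespace Groth.Agent.TwDescend.UnibranchAny

/-- Geometric unibranchness passes to surjective closed subschemes. -/
theorem isGeomUnibranch_closed {S Z : Scheme.{u}} (j : Z ⟶ S) [IsClosedImmersion j] [Surjective j] (z : Z)
    (h : CAlg2.IsGeomUnibranch (S.presheaf.stalk (j z))) : CAlg2.IsGeomUnibranch (Z.presheaf.stalk z) := by
  let φ := (j.stalkMap z).hom
  have hsurj : Function.Surjective φ := j.stalkMap_surjective z
  have hker : ∀ a, φ a = 0 → IsNilpotent a := fun a ha => by
    rw [nilpotent_iff_mem_prime]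
    intro p hp
    have hsp : S.fromSpecStalk (j z) ⟨p, hp⟩ ⤳ j z := by
      have : S.fromSpecStalk (j z) ⟨p, hp⟩ ∈ Set.range (S.fromSpecStalk (j z)) := ⟨_, rfl⟩
      rwa [Scheme.range_fromSpecStalk] at this
    obtain ⟨w, hw⟩ := j.surjective (S.fromSpecStalk (j z) ⟨p, hp⟩)
    rw [← hw, j.isClosedEmbedding.isInducing.specializes_iff] at hsp
    obtain ⟨q, hq⟩ : w ∈ Set.range (Z.fromSpecStalk z) := by
      rw [Scheme.range_fromSpecStalk]; exact hsp
    have h1 : S.fromSpecStalk (j z) (Spec.map (j.stalkMap z) q) = S.fromSpecStalk (j z) ⟨p, hp⟩ := by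
      rw [← Scheme.Hom.comp_apply, Scheme.SpecMap_stalkMap_fromSpecStalk, Scheme.Hom.comp_apply, hq, hw]
    have h2 : (Spec.map (j.stalkMap z) q).asIdeal = p :=
      congrArg PrimeSpectrum.asIdeal ((S.fromSpecStalk (j z)).isEmbedding.injective h1)
    rw [← h2]
    show φ a ∈ q.asIdeal
    rw [ha]
    exact q.asIdeal.zero_mem
  obtain ⟨D, _, _, _, _, hD, hkerD, hint, hins⟩ := IntBC.branch_of_isGeomUnibranch h
  let g : Z.presheaf.stalk z →+* D := φ.liftOfSurjective hsurj ⟨algebraMap _ D, fun a ha =>
    ((hker a ha).map (algebraMap _ D)).eq_zero⟩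
  have hg : ∀ a, g (φ a) = algebraMap _ D a := fun a => RingHom.liftOfRightInverse_comp_apply _ _ _ _ a
  refine IntBC.isGeomUnibranch_of_branch ?_
  letI : Algebra (Z.presheaf.stalk z) D := g.toAlgebra
  refine ⟨D, inferInstance, inferInstance, inferInstance, g.toAlgebra, hD, fun x hx => ?_, ⟨fun d => ?_⟩,
    fun d => ?_⟩
  · obtain ⟨a, rfl⟩ := hsurj x
    exact (hkerD a ((hg a).symm.trans hx)).map φ
  · obtain ⟨P, hP, he⟩ := hint.isIntegral d
    refine ⟨P.map φ, hP.map _, ?_⟩
    rw [Polynomial.eval₂_map, show (algebraMap (Z.presheaf.stalk z) D).comp φ = algebraMap _ D from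
      RingHom.ext hg, he]
  · obtain ⟨n, a, ha⟩ := hins d
    exact ⟨n, φ a, (hg a).symm ▸ ha⟩

/-- Two points over the generic point, one specializing to the other, are equal. -/
theorem eq_of_specializes {S X : Scheme.{u}} [IrreducibleSpace S] (f : X ⟶ S) [Etale f] {l m : X}
    (hl : f l = genericPoint S) (hm : f m = genericPoint S) (h : l ⤳ m) : l = m := by
  haveI : LocallyQuasiFinite f := locallyQuasiFinite_of_etale f
  haveI : DiscreteTopology (f ⁻¹' {genericPoint S}) := (f.isDiscrete_preimage_singleton _).to_subtype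
  exact congrArg Subtype.val ((Topology.IsInducing.subtypeVal.specializes_iff.mp
    (show (⟨l, hl⟩ : f ⁻¹' {genericPoint S}).1 ⤳ (⟨m, hm⟩ : f ⁻¹' {genericPoint S}).1 from h)).eq)

/-- A generalisation lies in the same connected component. -/
theorem mem_connectedComponent_of_specializes {X : Type u} [TopologicalSpace X] {a b : X} (h : a ⤳ b) :
    a ∈ connectedComponent b :=
  isPreconnected_singleton.closure.subset_connectedComponent h.mem_closure (subset_closure rfl)

/-- The connected components of an étale scheme over an irreducible geometrically unibranch scheme are irreducible with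
generic point over the generic point. -/
theorem exists_component {S X : Scheme.{u}} [IrreducibleSpace S]
    (hS : ∀ s : S, CAlg2.IsGeomUnibranch (S.presheaf.stalk s)) (f : X ⟶ S) [Etale f] (x : X) :
    ∃ l : X, f l = genericPoint S ∧ connectedComponent x = closure ({l} : Set X) := by
  let J := Scheme.IdealSheafData.vanishingIdeal (⟨connectedComponent x, isClosed_connectedComponent⟩ : Closeds X)
  have hJ : Set.range J.subschemeι = connectedComponent x := H23.RedSub.range_vanishingIdeal _
  let Z := (Scheme.IdealSheafData.vanishingIdeal (⊤ : Closeds S)).subscheme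
  let j : Z ⟶ S := (Scheme.IdealSheafData.vanishingIdeal (⊤ : Closeds S)).subschemeι
  have hj : Set.range j = Set.univ := H23.RedSub.range_vanishingIdeal _
  haveI : Surjective j := ⟨Set.range_eq_univ.mp hj⟩
  haveI : IrreducibleSpace Z := by
    let e := j.isClosedEmbedding.isEmbedding.toHomeomorphOfSurjective j.surjective
    have h1 := (IrreducibleSpace.isIrreducible_univ S).image e.symm e.symm.continuous.continuousOn
    rw [Set.image_univ, e.symm.surjective.range_eq] at h1
    exact irreducibleSpace_def Z |>.mpr h1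
  haveI : IsIntegral Z := isIntegral_of_irreducibleSpace_of_isReduced Z
  have hZ : ∀ z : Z, CAlg2.IsGeomUnibranch (Z.presheaf.stalk z) := fun z => isGeomUnibranch_closed j z (hS _)
  have hgen : j (genericPoint Z) = genericPoint S := by
    have h1 := (genericPoint_spec Z).image j.continuous
    rw [Set.image_univ, hj, closure_univ] at h1
    exact h1.eq (genericPoint_spec S)
  let g := pullback.snd (J.subschemeι ≫ f) j
  let m := pullback.fst (J.subschemeι ≫ f) j ≫ J.subschemeι
  have hm : Set.range m = connectedComponent x := by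
    rw [← hJ]
    refine Set.ext fun y => ⟨?_, ?_⟩
    · rintro ⟨p, rfl⟩; exact ⟨_, rfl⟩
    · rintro ⟨c, rfl⟩
      obtain ⟨p, hp⟩ := (pullback.fst (J.subschemeι ≫ f) j).surjective c
      exact ⟨p, by rw [Scheme.Hom.comp_apply, hp]⟩
  haveI : IsClosedImmersion m := inferInstance
  obtain ⟨l0, hl0x, hl0⟩ := Flat.generalizingMap f ((genericPoint_spec S).specializes (Set.mem_univ (f x)))
  obtain ⟨p0, hp0⟩ : l0 ∈ Set.range m := hm ▸ mem_connectedComponent_of_specializes hl0x
  haveI : ConnectedSpace ↥(pullback (J.subschemeι ≫ f) j) :=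
    { isPreconnected_univ := by
        rw [← m.isClosedEmbedding.isInducing.isPreconnected_image, Set.image_univ, hm]
        exact isPreconnected_connectedComponent
      toNonempty := ⟨p0⟩ }
  have hg0 : g p0 = genericPoint Z := by
    apply j.isClosedEmbedding.injective
    rw [hgen, ← hl0, ← hp0, ← Scheme.Hom.comp_apply, ← Scheme.Hom.comp_apply, show g ≫ j = m ≫ f by
      simp only [g, m, Category.assoc]; rw [pullback.condition]]
  haveI : IsIso (pullback.diagonal J.subschemeι) := inferInstance
  haveI : FormallyUnramified J.subschemeι := inferInstance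
  haveI : FormallyUnramified (J.subschemeι ≫ f) := MorphismProperty.comp_mem (W := @FormallyUnramified) _ _ inferInstance inferInstance
  haveI : FormallyUnramified g := MorphismProperty.pullback_snd (P := @FormallyUnramified) _ _ inferInstance
  obtain ⟨-, hP, -⟩ := S2755.result g hZ ⟨p0, hg0⟩
  haveI := hP
  refine ⟨m (genericPoint _), ?_, ?_⟩
  · have h1 : g (genericPoint _) = genericPoint Z :=
      (((genericPoint_spec _).specializes (Set.mem_univ p0)).map g.continuous |>.trans (hg0 ▸ specializes_rfl)
        |>.antisymm ((genericPoint_spec Z).specializes (Set.mem_univ _))).eq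
    rw [← Scheme.Hom.comp_apply, show m ≫ f = g ≫ j by simp only [g, m, Category.assoc]; rw [pullback.condition],
      Scheme.Hom.comp_apply, h1, hgen]
  · have h1 := (genericPoint_spec ↥(pullback (J.subschemeι ≫ f) j)).image m.continuous
    rw [Set.image_univ, hm, isClosed_connectedComponent.closure_eq] at h1
    exact h1.def.symm

/-- The closure of a point over the generic point is its connected component. -/
theorem closure_eq_component {S X : Scheme.{u}} [IrreducibleSpace S]
    (hS : ∀ s : S, CAlg2.IsGeomUnibranch (S.presheaf.stalk s)) (f : X ⟶ S) [Etale f] (l : X)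
    (hl : f l = genericPoint S) : closure ({l} : Set X) = connectedComponent l := by
  obtain ⟨l', hl', he⟩ := exists_component hS f l
  have hsp : l' ⤳ l := specializes_iff_mem_closure.mpr (he ▸ mem_connectedComponent)
  rw [he, eq_of_specializes f hl' hl hsp]

/-- The closure of a point over the generic point is open. -/
theorem isOpen_closure {S X : Scheme.{u}} [IrreducibleSpace S]
    (hS : ∀ s : S, CAlg2.IsGeomUnibranch (S.presheaf.stalk s)) (f : X ⟶ S) [Etale f] (l : X)
    (hl : f l = genericPoint S) : IsOpen (closure ({l} : Set X)) := by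
  rw [closure_eq_component hS f l hl, isOpen_iff_forall_mem_open]
  intro y hy
  obtain ⟨V, hV, hyV, -⟩ := exists_isAffineOpen_mem_and_subset (show f y ∈ (⊤ : S.Opens) from trivial)
  obtain ⟨W, hW, hyW, hWV⟩ := exists_isAffineOpen_mem_and_subset (show y ∈ f ⁻¹ᵁ V from hyV)
  have hηV : genericPoint S ∈ V := (genericPoint_spec S).mem_open_set_iff V.2 |>.mpr ⟨f y, trivial, hyV⟩
  let r := f.resLE V W hWV
  haveI : Etale r := inferInstance
  haveI : LocallyQuasiFinite r := locallyQuasiFinite_of_etale r
  haveI : IsAffine (W : Scheme.{u}) := hW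
  haveI : IsAffine (V : Scheme.{u}) := hV
  let F : Set X := {m | m ∈ W ∧ f m = genericPoint S ∧ m ∉ connectedComponent l}
  have hF : F.Finite := by
    refine ((r.finite_preimage_singleton ⟨genericPoint S, hηV⟩).image W.ι).subset fun m hm => ?_
    refine ⟨⟨m, hm.1⟩, ?_, rfl⟩
    show r ⟨m, hm.1⟩ = _
    apply V.ι.isOpenEmbedding.injective
    rw [← Scheme.Hom.comp_apply, Scheme.Hom.resLE_comp_ι, Scheme.Hom.comp_apply]
    exact hm.2.1
  refine ⟨(W : Set X) \ ⋃ m ∈ F, connectedComponent m, fun z hz => ?_,
    W.2.sdiff (hF.isClosed_biUnion fun m _ => isClosed_connectedComponent), hyW, fun hmem => ?_⟩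
  · obtain ⟨lz, hlz, hez⟩ := exists_component hS f z
    have hsp : lz ⤳ z := specializes_iff_mem_closure.mpr (hez ▸ mem_connectedComponent)
    have hlzW : lz ∈ W := hsp.mem_open W.2 hz.1
    have hlzC : lz ∈ connectedComponent l := by
      by_contra hn
      refine hz.2 (Set.mem_iUnion₂.mpr ⟨lz, ⟨hlzW, hlz, hn⟩, ?_⟩)
      rw [← closure_eq_component hS f lz hlz]
      exact hsp.mem_closure
    rw [connectedComponent_eq hlzC, ← closure_eq_component hS f lz hlz]
    exact hsp.mem_closure
  · obtain ⟨m, hm, hym⟩ := Set.mem_iUnion₂.mp hmem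
    exact hm.2.2 ((connectedComponent_eq hy).trans (connectedComponent_eq hym).symm ▸ mem_connectedComponent)

/-- The irreducible components of a quasi-isotrivial twisted constant scheme are finite over the base. -/
theorem isFinite_closure {S : Scheme.{u}} [IrreducibleSpace S]
    (X : Over S) (hX : TwC.IsTwConst TwC.Topology.etale X) (l : X.left) (hl : X.hom l = genericPoint S)
    (U : X.left.Opens) (hU : (U : Set X.left) = closure ({l} : Set X.left)) : IsFinite (U.ι ≫ X.hom) := by
  obtain ⟨-, het⟩ := isSeparated_etale X hX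
  haveI : IsClosedImmersion U.ι := .of_isPreimmersion _ (by
    rw [Scheme.Opens.range_ι, hU]; exact isClosed_closure)
  let g := U.ι ≫ X.hom
  have huniq : ∀ u : (U : Scheme.{u}), g u = genericPoint S → U.ι u = l := fun u hu => by
    have h1 : U.ι u ∈ closure ({l} : Set X.left) := by
      rw [← hU]
      exact u.2
    exact (eq_of_specializes X.hom hl hu (specializes_iff_mem_closure.mpr h1)).symm
  have hlU : l ∈ U := by
    show l ∈ (U : Set X.left)
    rw [hU]
    exact subset_closure rfl
  have chart : ∀ s : S, ∃ (S'' : Scheme.{u}) (a : S'' ⟶ S) (V : S.Opens) (b : S'' ⟶ V) (I : Type u),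
      IsAffine S'' ∧ Etale a ∧ s ∈ Set.range a ∧ IsAffineOpen V ∧ b ≫ V.ι = a ∧
      Nonempty (Red.bc a X ≅ TwC.const S'' I) := by
    intro s
    obtain ⟨S', f, hf, ⟨s', hs'⟩, I, ⟨e⟩⟩ := hX s
    haveI := hf
    obtain ⟨V, hV, hsV, -⟩ := exists_isAffineOpen_mem_and_subset (show s ∈ (⊤ : S.Opens) from trivial)
    obtain ⟨A, hA, hsA, hAV⟩ := exists_isAffineOpen_mem_and_subset (show s' ∈ f ⁻¹ᵁ V by
      show f s' ∈ V; rwa [hs'])
    exact ⟨A, A.ι ≫ f, V, f.resLE V A hAV, I, hA, inferInstance, ⟨⟨s', hsA⟩, hs'⟩, hV,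
      Scheme.Hom.resLE_comp_ι _ _, ⟨(ActBC.bcCompIso A.ι f X rfl).symm ≪≫ (Over.pullback A.ι).mapIso e ≪≫
        constBC A.ι I⟩⟩
  choose S'' a V b I haff ha hs hV hb he using chart
  haveI := ha
  let p : ∐ S'' ⟶ S := Sigma.desc a
  haveI : Etale p := IsZariskiLocalAtSource.sigmaDesc fun s => ha s
  haveI : Surjective p := ⟨fun s => by
    obtain ⟨s', hs'⟩ := hs s
    refine ⟨Sigma.ι S'' s s', ?_⟩
    rw [← Scheme.Hom.comp_apply, Sigma.ι_desc]
    exact hs'⟩
  haveI := EtFound.fpqc_isFinite.{u}
  refine MorphismProperty.of_pullback_snd_of_descendsAlong (P := @IsFinite)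
    (Q := @Surjective ⊓ @Flat ⊓ @LocallyOfFinitePresentation) (f := g) (g := p)
    ⟨⟨inferInstance, inferInstance⟩, inferInstance⟩ ?_
  refine IsZariskiLocalAtTarget.of_openCover (sigmaOpenCover S'') fun s => ?_
  suffices h1 : IsFinite (pullback.snd g (a s)) by
    have h2 : Sigma.ι S'' s ≫ p = a s := Sigma.ι_desc _ _
    change IsFinite (pullback.snd (pullback.snd g p) (Sigma.ι S'' s))
    have sq := (IsPullback.of_hasPullback (pullback.snd g p) (Sigma.ι S'' s)).paste_horiz
      (IsPullback.of_hasPullback g p)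
    rw [h2] at sq
    rw [← sq.isoPullback_hom_snd]
    infer_instance
  haveI := haff s
  obtain ⟨e⟩ := he s
  let r : pullback g (a s) ⟶ pullback X.hom (a s) :=
    pullback.map _ _ _ _ U.ι (𝟙 _) (𝟙 _) (Category.comp_id _) (by rw [Category.comp_id, Category.id_comp])
  have hr : IsPullback (pullback.fst g (a s)) r U.ι (pullback.fst X.hom (a s)) := by
    refine IsPullback.of_bot ?_ (pullback.lift_fst _ _ _).symm (IsPullback.of_hasPullback X.hom (a s))
    rw [pullback.lift_snd, Category.comp_id]
    exact IsPullback.of_hasPullback g (a s)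
  haveI : IsClosedImmersion r := MorphismProperty.of_isPullback (P := @IsClosedImmersion) hr inferInstance
  let el : pullback X.hom (a s) ≅ ∐ fun _ : I s => S'' s := (Over.forget (S'' s)).mapIso e
  have hel : el.hom ≫ (Sigma.desc fun _ : I s => 𝟙 (S'' s)) = pullback.snd X.hom (a s) := Over.w e.hom
  let c : pullback g (a s) ⟶ ∐ fun _ : I s => S'' s := r ≫ el.hom
  have hc : c ≫ (Sigma.desc fun _ : I s => 𝟙 _) = pullback.snd g (a s) := by
    simp only [c, r, Category.assoc]
    rw [hel, pullback.lift_snd, Category.comp_id]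
  haveI : IsClosedImmersion c := inferInstanceAs (IsClosedImmersion (r ≫ el.hom))
  haveI : CompactSpace ↥(pullback g (a s)) := by
    haveI : Etale g := inferInstance
    haveI : Etale (pullback.snd g (a s) ≫ a s) := inferInstance
    -- the points over the generic point
    let π := pullback.snd g (a s) ≫ a s
    obtain ⟨W, hW, hlW, hWV⟩ := exists_isAffineOpen_mem_and_subset (show l ∈ X.hom ⁻¹ᵁ V s by
      show X.hom l ∈ V s
      rw [hl]
      obtain ⟨s', hs'⟩ := hs s
      exact (genericPoint_spec S).mem_open_set_iff (V s).2 |>.mpr ⟨a s s', trivial, by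
        show a s s' ∈ V s
        rw [← hb s, Scheme.Hom.comp_apply]
        exact (b s s').2⟩)
    let W' : (U : Scheme.{u}).Opens := U.ι ⁻¹ᵁ W
    let q₁ : (W' : Scheme.{u}) ⟶ V s := g.resLE (V s) W' fun w hw => hWV hw
    have hηV : genericPoint S ∈ V s := by
      rw [← hl]; exact hWV hlW
    haveI : IsAffine (W : Scheme.{u}) := hW
    haveI : IsAffine (W' : Scheme.{u}) := hW.preimage U.ι
    haveI : IsAffine (V s : Scheme.{u}) := hV s
    let m : pullback q₁ (b s) ⟶ pullback g (a s) := pullback.map _ _ _ _ W'.ι (𝟙 _) (V s).ι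
      (Scheme.Hom.resLE_comp_ι _ _) (by rw [hb, Category.id_comp])
    haveI : Etale (pullback.snd q₁ (b s) ≫ b s) := by
      haveI : Etale (b s) := by
        haveI : Etale (b s ≫ (V s).ι) := (hb s).symm ▸ ha s
        exact MorphismProperty.of_postcomp (W := @Etale) (W' := @Etale) (b s) (V s).ι inferInstance ‹_›
      infer_instance
    haveI : LocallyQuasiFinite (pullback.snd q₁ (b s) ≫ b s) := locallyQuasiFinite_of_etale _
    have hfin : (π ⁻¹' {genericPoint S}).Finite := by
      refine (((pullback.snd q₁ (b s) ≫ b s).finite_preimage_singleton ⟨genericPoint S, hηV⟩).image m).subset ?_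
      intro z hz
      have h1 : g (pullback.fst g (a s) z) = genericPoint S := by
        rw [← Scheme.Hom.comp_apply, pullback.condition]
        exact hz
      have h2 : pullback.fst g (a s) z ∈ W' := by
        show U.ι _ ∈ W
        rw [huniq _ h1]
        exact hlW
      obtain ⟨y, hy⟩ : z ∈ Set.range m := by
        rw [Scheme.Pullback.range_map]
        exact ⟨⟨⟨_, h2⟩, rfl⟩, ⟨_, rfl⟩⟩
      refine ⟨y, ?_, hy⟩
      show (pullback.snd q₁ (b s) ≫ b s) y = _
      apply (V s).ι.isOpenEmbedding.injective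
      have : (pullback.snd q₁ (b s) ≫ b s) ≫ (V s).ι = m ≫ π := by
        simp only [m, π, Category.assoc, hb]
        rw [pullback.lift_snd_assoc, Category.comp_id]
      rw [← Scheme.Hom.comp_apply, this, Scheme.Hom.comp_apply, hy]
      exact hz
    let idx : ↥(pullback g (a s)) → I s := fun z => ((sigmaMk fun _ : I s => S'' s).symm (c z)).1
    let K : Set ↥(∐ fun _ : I s => S'' s) :=
      ⋃ i ∈ idx '' (π ⁻¹' {genericPoint S}), Set.range (Sigma.ι (fun _ : I s => S'' s) i)
    have hK : IsCompact K := (hfin.image idx).isCompact_biUnion fun i _ =>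
      isCompact_range (Sigma.ι (fun _ : I s => S'' s) i).continuous
    have hsub : Set.range c ⊆ K := by
      rintro _ ⟨z, rfl⟩
      obtain ⟨⟨i, t⟩, ht⟩ := (sigmaMk fun _ : I s => S'' s).surjective (c z)
      rw [sigmaMk_mk] at ht
      obtain ⟨z0, hz0, hz0'⟩ := Flat.generalizingMap π
        ((genericPoint_spec S).specializes (Set.mem_univ (π z)))
      obtain ⟨t0, ht0⟩ : c z0 ∈ Set.range (Sigma.ι (fun _ : I s => S'' s) i) :=
        (hz0.map c.continuous).mem_open (Sigma.ι (fun _ : I s => S'' s) i).isOpenEmbedding.isOpen_range ⟨t, ht⟩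
      refine Set.mem_iUnion₂.mpr ⟨idx z0, ⟨z0, hz0', rfl⟩, ?_⟩
      have : idx z0 = i := by
        simp only [idx]
        rw [← ht0, ← sigmaMk_mk, Homeomorph.symm_apply_apply]
      rw [this]
      exact ⟨t, ht⟩
    have h1 : IsCompact (Set.range c) := hK.of_isClosed_subset c.isClosedEmbedding.isClosed_range hsub
    rw [← isCompact_univ_iff, c.isClosedEmbedding.isInducing.isCompact_iff, Set.image_univ]
    exact h1
  haveI : QuasiCompact (c ≫ Sigma.desc fun _ : I s => 𝟙 _) := (quasiCompact_iff_compactSpace _).mpr inferInstance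
  have h := GrpSchLib.TwConstClosed.isFinite_of_const (I s) c
  rw [hc] at h
  exact h

/-- The components: open, closed, finite, étale and surjective. -/
theorem exists_piece {S : Scheme.{u}} [IrreducibleSpace S]
    (hS : ∀ s : S, CAlg2.IsGeomUnibranch (S.presheaf.stalk s))
    (X : Over S) (hX : TwC.IsTwConst TwC.Topology.etale X) (l : X.left) (hl : X.hom l = genericPoint S) :
    ∃ U : X.left.Opens, (U : Set X.left) = closure ({l} : Set X.left) ∧ IsClosed (U : Set X.left) ∧
      IsFinite (U.ι ≫ X.hom) ∧ Etale (U.ι ≫ X.hom) ∧ Surjective (U.ι ≫ X.hom) := by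
  obtain ⟨-, het⟩ := isSeparated_etale X hX
  let U : X.left.Opens := ⟨closure ({l} : Set X.left), isOpen_closure hS X.hom l hl⟩
  have hfin := isFinite_closure X hX l hl U rfl
  haveI := hfin
  refine ⟨U, rfl, isClosed_closure, hfin, inferInstance, ⟨fun s => ?_⟩⟩
  have h1 : IsClosed (Set.range (U.ι ≫ X.hom)) := (U.ι ≫ X.hom).isClosedMap.isClosed_range
  have h2 : genericPoint S ∈ Set.range (U.ι ≫ X.hom) := ⟨⟨l, subset_closure rfl⟩, hl⟩
  exact h1.closure_subset_iff.mpr (Set.singleton_subset_iff.mpr h2) ((genericPoint_spec S).def ▸ Set.mem_univ s)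

/-- Sections agreeing at the generic point are equal. -/
theorem section_ext {S : Scheme.{u}} [IrreducibleSpace S] {X : Scheme.{u}} (f : X ⟶ S) [Etale f] [IsSeparated f]
    (σ₁ σ₂ : S ⟶ X) (h₁ : σ₁ ≫ f = 𝟙 S) (h₂ : σ₂ ≫ f = 𝟙 S)
    (h : S.fromSpecResidueField (genericPoint S) ≫ σ₁ = S.fromSpecResidueField (genericPoint S) ≫ σ₂) :
    σ₁ = σ₂ := by
  let q := pullback.lift σ₁ σ₂ (h₁.trans h₂.symm)
  let d := pullback.snd (pullback.diagonal f) q
  haveI : IsClosedImmersion d := MorphismProperty.pullback_snd _ _ inferInstance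
  haveI : IsOpenImmersion d := MorphismProperty.pullback_snd _ _ inferInstance
  have hη : genericPoint S ∈ Set.range d := by
    let t := pullback.lift (f := pullback.diagonal f) (g := q) (S.fromSpecResidueField (genericPoint S) ≫ σ₁)
      (S.fromSpecResidueField (genericPoint S)) (by
        apply pullback.hom_ext <;> simp [q, h])
    refine ⟨t (IsLocalRing.closedPoint _), ?_⟩
    rw [← Scheme.Hom.comp_apply, pullback.lift_snd, Scheme.fromSpecResidueField_apply]
  haveI : Surjective d := ⟨fun s => d.isClosedEmbedding.isClosed_range.closure_subset_iff.mpr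
    (Set.singleton_subset_iff.mpr hη) ((genericPoint_spec S).def ▸ Set.mem_univ s)⟩
  haveI : IsIso d := by
    refine isIso_of_isOpenImmersion_of_opensRange_eq_top d (TopologicalSpace.Opens.ext ?_)
    exact Set.range_eq_univ.mpr d.surjective
  rw [← cancel_epi d]
  conv_lhs => rw [← pullback.lift_fst σ₁ σ₂ (h₁.trans h₂.symm), ← pullback.condition_assoc]
  conv_rhs => rw [← pullback.lift_snd σ₁ σ₂ (h₁.trans h₂.symm), ← pullback.condition_assoc]
  simp

/-- A finite étale irreducible scheme with trivial generic residue extension is the base. -/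
theorem isIso_of_rational {S U : Scheme.{u}} [IrreducibleSpace S] (g : U ⟶ S) [Etale g] [IsFinite g] [Surjective g]
    (l : U) (huniq : ∀ u, g u = genericPoint S → u = l)
    (τ : Spec (S.residueField (genericPoint S)) ⟶ U) (hτ : τ ≫ g = S.fromSpecResidueField (genericPoint S)) :
    IsIso g := by
  -- the morphism from the residue field of `l` factors through `τ`
  have hpt : τ (IsLocalRing.closedPoint _) = l := huniq _ (by
    rw [← Scheme.Hom.comp_apply, hτ, Scheme.fromSpecResidueField_apply])
  obtain ⟨ρ, hρ⟩ : ∃ ρ : Spec (U.residueField l) ⟶ Spec (S.residueField (genericPoint S)),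
      ρ ≫ τ = U.fromSpecResidueField l := by
    subst hpt
    let φ := τ.stalkMap (IsLocalRing.closedPoint _)
    obtain ⟨ρ, hρ⟩ : ∃ ρ : Spec (U.residueField (τ (IsLocalRing.closedPoint _))) ⟶ Spec (S.residueField (genericPoint S)),
        ρ ≫ S.fromSpecResidueField (genericPoint S) = U.fromSpecResidueField _ ≫ g := by
      have hgl : g (τ (IsLocalRing.closedPoint _)) = genericPoint S := by
        rw [← Scheme.Hom.comp_apply, hτ, Scheme.fromSpecResidueField_apply]
      refine ⟨Spec.map ((S.residueFieldCongr hgl.symm).hom ≫ g.residueFieldMap _), ?_⟩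
      rw [Spec.map_comp, Category.assoc, Scheme.residueFieldCongr_fromSpecResidueField,
        Scheme.Hom.SpecMap_residueFieldMap_fromSpecResidueField]
    refine ⟨ρ, ?_⟩
    obtain ⟨ψ, hψ⟩ : ∃ ψ, ψ ≫ U.fromSpecResidueField (τ (IsLocalRing.closedPoint _)) = τ :=
      ⟨_, Scheme.descResidueField_stalkClosedPointTo_fromSpecResidueField _ _ τ⟩
    have h1 : ψ ≫ ρ = 𝟙 _ := by
      rw [← cancel_mono (S.fromSpecResidueField (genericPoint S)), Category.assoc, hρ, reassoc_of% hψ, hτ,
        Category.id_comp]
    obtain ⟨α, rfl⟩ := Spec.map_surjective ψ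
    obtain ⟨β, rfl⟩ := Spec.map_surjective ρ
    have h2 : β ≫ α = 𝟙 _ := Spec.map_injective (by rw [Spec.map_comp, Spec.map_id]; exact h1)
    have h3 : α ≫ β = 𝟙 _ := by
      ext x
      apply (α.hom : _ →+* _).injective
      exact ConcreteCategory.congr_hom h2 (α.hom x)
    refine (congrArg (Spec.map β ≫ ·) hψ.symm).trans ?_
    show Spec.map β ≫ Spec.map α ≫ _ = _
    rw [← Category.assoc, ← Spec.map_comp, h3, Spec.map_id, Category.id_comp]
  have hdiag : Surjective (pullback.diagonal g) := ⟨fun z => by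
    have hclosed : IsClosed (Set.range (pullback.diagonal g)) := (pullback.diagonal g).isClosedEmbedding.isClosed_range
    obtain ⟨z0, hz0, hz0'⟩ := Flat.generalizingMap (pullback.fst g g ≫ g)
      ((genericPoint_spec S).specializes (Set.mem_univ ((pullback.fst g g ≫ g) z)))
    refine hz0.mem_closed hclosed ?_
    have hp : pullback.fst g g z0 = l := huniq _ hz0'
    have hp' : pullback.snd g g z0 = l := huniq _ (by
      rw [← hz0', ← Scheme.Hom.comp_apply, pullback.condition])
    have key : ∀ (π : pullback g g ⟶ U), π ≫ g = pullback.fst g g ≫ g → π z0 = l →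
        ∃ μ : Spec ((pullback g g).residueField z0) ⟶ Spec (S.residueField (genericPoint S)),
          (pullback g g).fromSpecResidueField z0 ≫ π = μ ≫ τ := fun π _ hπ => by
      refine ⟨Spec.map ((U.residueFieldCongr hπ.symm).hom ≫ π.residueFieldMap z0) ≫ ρ, ?_⟩
      rw [Category.assoc, hρ, Spec.map_comp, Category.assoc, Scheme.residueFieldCongr_fromSpecResidueField,
        Scheme.Hom.SpecMap_residueFieldMap_fromSpecResidueField]
    obtain ⟨μ, hμ⟩ := key (pullback.fst g g) rfl hp
    obtain ⟨μ', hμ'⟩ := key (pullback.snd g g) pullback.condition.symm hp'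
    have hμμ : μ = μ' := by
      rw [← cancel_mono (S.fromSpecResidueField (genericPoint S)), ← hτ, ← Category.assoc, ← Category.assoc,
        ← hμ, ← hμ', Category.assoc, Category.assoc, pullback.condition]
    refine ⟨((pullback g g).fromSpecResidueField z0 ≫ pullback.fst g g) (IsLocalRing.closedPoint _), ?_⟩
    rw [← Scheme.Hom.comp_apply, show ((pullback g g).fromSpecResidueField z0 ≫ pullback.fst g g) ≫
        pullback.diagonal g = (pullback g g).fromSpecResidueField z0 from by
      apply pullback.hom_ext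
      · simp
      · rw [Category.assoc, pullback.diagonal_snd, Category.comp_id, hμ, hμμ, hμ'], Scheme.fromSpecResidueField_apply]⟩
  haveI : IsIso (pullback.diagonal g) := by
    refine isIso_of_isOpenImmersion_of_opensRange_eq_top _ (TopologicalSpace.Opens.ext ?_)
    exact Set.range_eq_univ.mpr hdiag.surj
  haveI : Mono g := (pullback.isIso_diagonal_iff g).mp inferInstance
  exact Flat.isIso_of_surjective_of_mono g

/-- The structure theorem. -/
theorem result {S : Scheme.{u}} [IrreducibleSpace S] (hS : ∀ s : S, CAlg2.IsGeomUnibranch (S.presheaf.stalk s))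
    (X : Over S) (hX : TwC.IsTwConst TwC.Topology.etale X) :
    (∀ x : X.left, ∃! l : X.left, X.hom.base l = genericPoint S ∧ x ∈ closure ({l} : Set X.left)) ∧
    (∀ l : X.left, X.hom.base l = genericPoint S → ∃ U : X.left.Opens, (U : Set X.left) = closure ({l} : Set X.left) ∧
      IsClosed (U : Set X.left) ∧ IsFinite (U.ι ≫ X.hom) ∧ Etale (U.ι ≫ X.hom) ∧ Surjective (U.ι ≫ X.hom)) ∧
    (∀ σ₁ σ₂ : S ⟶ X.left, σ₁ ≫ X.hom = 𝟙 S → σ₂ ≫ X.hom = 𝟙 S →
      S.fromSpecResidueField (genericPoint S) ≫ σ₁ = S.fromSpecResidueField (genericPoint S) ≫ σ₂ → σ₁ = σ₂) ∧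
    (∀ τ : Spec (S.residueField (genericPoint S)) ⟶ X.left, τ ≫ X.hom = S.fromSpecResidueField (genericPoint S) →
      ∃ σ : S ⟶ X.left, σ ≫ X.hom = 𝟙 S ∧ S.fromSpecResidueField (genericPoint S) ≫ σ = τ) := by
  obtain ⟨hsep, het⟩ := isSeparated_etale X hX
  refine ⟨fun x => ?_, exists_piece hS X hX, fun σ₁ σ₂ h₁ h₂ h => section_ext X.hom σ₁ σ₂ h₁ h₂ h, fun τ hτ => ?_⟩
  · obtain ⟨l, hl, he⟩ := exists_component hS X.hom x
    refine ⟨l, ⟨hl, he ▸ mem_connectedComponent⟩, fun l' ⟨hl', hx'⟩ => ?_⟩
    have hmem : l' ∈ connectedComponent x :=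
      mem_connectedComponent_of_specializes (specializes_iff_mem_closure.mpr hx')
    rw [he] at hmem
    exact (eq_of_specializes X.hom hl hl' (specializes_iff_mem_closure.mpr hmem)).symm
  · let l := τ (IsLocalRing.closedPoint _)
    have hl : X.hom l = genericPoint S := by
      rw [← Scheme.Hom.comp_apply, hτ, Scheme.fromSpecResidueField_apply]
    obtain ⟨U, hU, -, hfin, heU, hsU⟩ := exists_piece hS X hX l hl
    have hlU : l ∈ (U : Set X.left) := hU ▸ subset_closure rfl
    let τ' : Spec (S.residueField (genericPoint S)) ⟶ U := IsOpenImmersion.lift U.ι τ (by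
      rintro _ ⟨z, rfl⟩
      rw [Scheme.Opens.range_ι, show z = IsLocalRing.closedPoint _ from Subsingleton.elim _ _]
      exact hlU)
    have hτ' : τ' ≫ U.ι = τ := IsOpenImmersion.lift_fac _ _ _
    have huniq : ∀ u : (U : Scheme.{u}), (U.ι ≫ X.hom) u = genericPoint S → u = ⟨l, hlU⟩ := fun u hu => by
      refine Subtype.ext (eq_of_specializes X.hom hl hu (specializes_iff_mem_closure.mpr ?_)).symm
      rw [← hU]
      exact u.2
    haveI := isIso_of_rational (U.ι ≫ X.hom) ⟨l, hlU⟩ huniq τ' (by rw [← Category.assoc, hτ', hτ])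
    refine ⟨inv (U.ι ≫ X.hom) ≫ U.ι, by simp, ?_⟩
    rw [← hτ, ← hτ']
    simp only [Category.assoc]
    rw [← Category.assoc U.ι X.hom, IsIso.hom_inv_id_assoc]

end Groth.Agent.TwDescend.UnibranchAny
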