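import Groth.Agent.FppfRefine.Local
import Groth.Agent.MorLib.EtaleGeomPoint
import Groth.Agent.H23.LocNoethTop

/-!
# Étale neighbourhoods over which a finite flat covering has connected self-product
-/

set_option autoImplicit false
set_option linter.style.haveILetI false
set_option linter.unusedSectionVars false
set_option backward.isDefEq.respectTransparency false
set_option backward.isDefEq.respectTransparency.types false

universe u

open TensorProduct TopologicalSpace

namespace Groth.Agent.TwDescend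

section

variable {C T : Type u} [CommRing C] [CommRing T] [Algebra C T] [Module.Finite C T] [Module.Flat C T]
  [IsNoetherianRing C]

/-- The image of a clopen set under a finite flat map of spectra is clopen. -/
theorem isClopen_image_comap {W : Set (PrimeSpectrum T)} (hW : IsClopen W) :
    IsClopen (PrimeSpectrum.comap (algebraMap C T) '' W) := by
  haveI : Algebra.FinitePresentation C T := Algebra.FinitePresentation.of_finiteType.mp inferInstance
  refine ⟨?_, PrimeSpectrum.isOpenMap_comap_of_hasGoingDown_of_finitePresentation _ hW.isOpen⟩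
  exact PrimeSpectrum.isClosedMap_comap_of_isIntegral (algebraMap C T)
    (Algebra.IsIntegral.isIntegral) _ hW.isClosed

/-- A finite flat algebra with a single prime over a point of a connected base has connected spectrum. -/
theorem preconnectedSpace_of_subsingleton_fibre [PreconnectedSpace (PrimeSpectrum C)] (P : PrimeSpectrum C)
    (hP : {z : PrimeSpectrum T | PrimeSpectrum.comap (algebraMap C T) z = P}.Subsingleton) :
    PreconnectedSpace (PrimeSpectrum T) := by
  rw [preconnectedSpace_iff_clopen]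
  intro W hW
  by_contra! h
  obtain ⟨hne, hne'⟩ := h
  have hne'' : Wᶜ.Nonempty := Set.nonempty_compl.mpr hne'
  have key : ∀ W : Set (PrimeSpectrum T), IsClopen W → W.Nonempty →
      ∃ z ∈ W, PrimeSpectrum.comap (algebraMap C T) z = P := fun W hW hne => by
    have := (isClopen_image_comap (C := C) hW).eq_univ (hne.image _)
    exact (Set.ext_iff.mp this P).mpr trivial
  obtain ⟨z, hz, hzP⟩ := key W hW hne
  obtain ⟨z', hz', hzP'⟩ := key Wᶜ hW.compl hne''
  exact hz' (hP hzP hzP' ▸ hz)

/-- If a finite algebra has only one geometric point over a prime, so has its square one prime over it. -/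
theorem fibre_tensor_subsingleton {Ω : Type u} [Field Ω] [IsAlgClosed Ω] [Algebra C Ω]
    (h : ∀ a b : T →ₐ[C] Ω, a = b) :
    {z : PrimeSpectrum (T ⊗[C] T) | z.asIdeal.comap (algebraMap C (T ⊗[C] T)) =
      RingHom.ker (algebraMap C Ω)}.Subsingleton := by
  have key : ∀ z : PrimeSpectrum (T ⊗[C] T), z.asIdeal.comap (algebraMap C (T ⊗[C] T)) =
      RingHom.ker (algebraMap C Ω) → ∃ ψ : T ⊗[C] T →ₐ[C] Ω, RingHom.ker ψ = z.asIdeal := by
    intro z hz
    let D := (T ⊗[C] T) ⧸ z.asIdeal
    let p := RingHom.ker (algebraMap C Ω)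
    haveI : p.IsPrime := RingHom.ker_isPrime _
    letI : Algebra (C ⧸ p) Ω := (RingHom.kerLift (algebraMap C Ω)).toAlgebra
    haveI : IsScalarTower C (C ⧸ p) Ω := IsScalarTower.of_algebraMap_eq fun _ => rfl
    haveI : z.asIdeal.LiesOver p := ⟨hz.symm⟩
    haveI : Algebra.IsIntegral (C ⧸ p) D := Algebra.IsIntegral.tower_top (R := C)
    haveI : Algebra.IsAlgebraic (C ⧸ p) D := Algebra.IsIntegral.isAlgebraic
    haveI : FaithfulSMul (C ⧸ p) D := (faithfulSMul_iff_algebraMap_injective _ _).mpr
      (Ideal.quotientMap_injective' hz.le)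
    haveI : FaithfulSMul (C ⧸ p) Ω := (faithfulSMul_iff_algebraMap_injective _ _).mpr
      (RingHom.kerLift_injective _)
    let φ : D →ₐ[C ⧸ p] Ω := IsAlgClosed.lift
    refine ⟨(φ.restrictScalars C).comp (Ideal.Quotient.mkₐ C z.asIdeal), ?_⟩
    have hinj : Function.Injective φ := by
      rw [injective_iff_map_eq_zero]
      intro d hd
      by_contra hd0
      have hne : RingHom.ker φ.toRingHom ≠ ⊥ := fun hb => hd0 (by
        have : d ∈ RingHom.ker φ.toRingHom := hd
        rw [hb] at this; exact this)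
      apply Ideal.comap_ne_bot_of_algebraic_mem hd0 (show d ∈ RingHom.ker φ.toRingHom from hd)
        (Algebra.IsAlgebraic.isAlgebraic (R := C ⧸ p) d)
      refine (eq_bot_iff.mpr fun x hx => ?_)
      have hx' : φ (algebraMap _ D x) = 0 := hx
      rw [AlgHom.commutes] at hx'
      exact (map_eq_zero_iff _ (FaithfulSMul.algebraMap_injective (C ⧸ p) Ω)).mp hx'
    ext x
    show φ (Ideal.Quotient.mk z.asIdeal x) = 0 ↔ _
    rw [map_eq_zero_iff _ hinj, Ideal.Quotient.eq_zero_iff_mem]
  intro z hz z' hz'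
  obtain ⟨ψ, hψ⟩ := key z hz
  obtain ⟨ψ', hψ'⟩ := key z' hz'
  have : ψ = ψ' := Algebra.TensorProduct.ext (h _ _) (h _ _)
  subst this
  exact PrimeSpectrum.ext (hψ.symm.trans hψ')

end

/-- Over a Noetherian base a flat finitely presented algebra acquires, étale locally at a point of its image, a
finite faithfully flat refinement whose self-product has connected spectrum. -/
theorem exists_etale_connected_selfProduct {B B' : Type u} [CommRing B] [IsNoetherianRing B] [CommRing B']
    [Algebra B B'] [Module.Flat B B'] [Algebra.FinitePresentation B B'] (q : PrimeSpectrum B') :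
    ∃ (C : Type u) (_ : CommRing C) (_ : Algebra B C) (_ : Algebra.Etale B C) (P : PrimeSpectrum C)
      (T : Type u) (_ : CommRing T) (_ : Algebra C T) (j : B' →+* T),
      PrimeSpectrum.comap (algebraMap B C) P = PrimeSpectrum.comap (algebraMap B B') q ∧
      Module.FaithfullyFlat C T ∧ Algebra.FinitePresentation C T ∧ Nontrivial T ∧
      PreconnectedSpace (PrimeSpectrum (T ⊗[C] T)) ∧
      j.comp (algebraMap B B') = (algebraMap C T).comp (algebraMap B C) := by
  classical
  obtain ⟨h, -, C₀, _, _, P₀, _, T₀, _, _, j₀, hstd, hP₀, _, _, _, _, hj₀⟩ :=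
    FppfRefine.exists_away_etale_finite_projective (B := B) (B' := B') q
  letI : Algebra B C₀ := ((algebraMap (Localization.Away h) C₀).comp (algebraMap B (Localization.Away h))).toAlgebra
  haveI : IsScalarTower B (Localization.Away h) C₀ := IsScalarTower.of_algebraMap_eq fun _ => rfl
  haveI := hstd
  haveI : Algebra.Etale B (Localization.Away h) := Algebra.Etale.of_isLocalizationAway h
  haveI : Algebra.Etale B C₀ := Algebra.Etale.comp B (Localization.Away h) C₀
  -- a geometric point over `P₀`
  obtain ⟨t, ht⟩ := PrimeSpectrum.comap_surjective_of_faithfullyFlat (A := C₀) (B := T₀) ⟨P₀, inferInstance⟩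
  let Ω := AlgebraicClosure t.asIdeal.ResidueField
  let s₀ : T₀ →+* Ω := (algebraMap t.asIdeal.ResidueField Ω).comp (algebraMap T₀ t.asIdeal.ResidueField)
  let s : T₀ →ₐ[C₀] Ω := IsScalarTower.toAlgHom C₀ T₀ Ω
  have hs₀ : (s : T₀ →+* Ω) = s₀ := IsScalarTower.algebraMap_eq T₀ t.asIdeal.ResidueField Ω
  have hs : RingHom.ker (s : T₀ →+* Ω) = t.asIdeal := by
    rw [hs₀, RingHom.ker_comp_of_injective _ (algebraMap t.asIdeal.ResidueField Ω).injective,
      Ideal.ker_algebraMap_residueField]
  obtain ⟨C₁, _, _, _, r, e, he, hfin, hes, huniq⟩ := MorLib.EGP.exists_etale_isolated_geomPoint (R := C₀) s (by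
    haveI := RingHom.ker_isPrime (s : T₀ →+* Ω)
    infer_instance)
  letI : Algebra B C₁ := ((algebraMap C₀ C₁).comp (algebraMap B C₀)).toAlgebra
  haveI : IsScalarTower B C₀ C₁ := IsScalarTower.of_algebraMap_eq fun _ => rfl
  haveI : Algebra.Etale B C₁ := Algebra.Etale.comp B C₀ C₁
  haveI : IsNoetherianRing C₁ := Algebra.FiniteType.isNoetherianRing B C₁
  haveI : (RingHom.ker (r : C₁ →+* Ω)).IsPrime := RingHom.ker_isPrime _
  let P₁ : PrimeSpectrum C₁ := ⟨RingHom.ker (r : C₁ →+* Ω), inferInstance⟩
  haveI : LocallyConnectedSpace (PrimeSpectrum C₁) := H23.LocNoethTop.locallyConnectedSpace fun x =>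
    ⟨Set.univ, Filter.univ_mem, inferInstance⟩
  obtain ⟨ε, hε, hεeq⟩ := PrimeSpectrum.exists_idempotent_basicOpen_eq_of_isClopen
    (⟨isClosed_connectedComponent, isOpen_connectedComponent⟩ : IsClopen (connectedComponent P₁))
  let C := Localization.Away ε
  haveI : IsNoetherianRing C := IsLocalization.isNoetherianRing (Submonoid.powers ε) C ‹_›
  haveI : Algebra.Etale C₁ C := Algebra.Etale.of_isLocalizationAway ε
  haveI : IsScalarTower B C₁ C := inferInstance
  haveI : Algebra.Etale B C := Algebra.Etale.comp B C₁ C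
  haveI : PreconnectedSpace (PrimeSpectrum C) := by
    have hemb : Topology.IsEmbedding (PrimeSpectrum.comap (algebraMap C₁ C)) :=
      (PrimeSpectrum.localization_away_isOpenEmbedding C ε).isEmbedding
    refine ⟨hemb.toIsInducing.isPreconnected_image.mp ?_⟩
    rw [Set.image_univ, PrimeSpectrum.localization_away_comap_range C ε, ← hεeq]
    exact isPreconnected_connectedComponent
  have hεr : r ε ≠ 0 := fun h0 => by
    have : P₁ ∈ (PrimeSpectrum.basicOpen ε : Set (PrimeSpectrum C₁)) := hεeq ▸ mem_connectedComponent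
    exact this h0
  let rC : C →+* Ω := IsLocalization.Away.lift (g := (r : C₁ →+* Ω)) ε (isUnit_iff_ne_zero.mpr hεr)
  letI : Algebra C₁ Ω := (r : C₁ →+* Ω).toAlgebra
  haveI : IsScalarTower C₀ C₁ Ω := IsScalarTower.of_algebraMap_eq fun x => (r.commutes x).symm
  letI : Algebra C Ω := rC.toAlgebra
  haveI : IsScalarTower C₁ C Ω := IsScalarTower.of_algebraMap_eq fun x =>
    (IsLocalization.Away.lift_eq ε (isUnit_iff_ne_zero.mpr hεr) x).symm
  let T₁ := Localization.Away e
  haveI : Module.Finite C₁ T₁ := hfin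
  haveI : Module.Flat (C₁ ⊗[C₀] T₀) T₁ := IsLocalization.flat T₁ (Submonoid.powers e)
  haveI : Module.Flat C₁ T₁ := Module.Flat.trans C₁ (C₁ ⊗[C₀] T₀) T₁
  let T := C ⊗[C₁] T₁
  haveI : Module.Finite C T := inferInstance
  haveI : Module.Flat C T := inferInstance
  let P : PrimeSpectrum C := ⟨RingHom.ker (algebraMap C Ω), RingHom.ker_isPrime _⟩
  let l : (C₁ ⊗[C₀] T₀) →ₐ[C₁] Ω := Algebra.TensorProduct.lift (Algebra.ofId C₁ Ω) s fun _ _ => .all _ _
  have hle : IsUnit (l e) := isUnit_iff_ne_zero.mpr hes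
  let sT₁ : T₁ →ₐ[C₁] Ω :=
    { IsLocalization.Away.lift (g := (l : (C₁ ⊗[C₀] T₀) →+* Ω)) e hle with
      commutes' := fun x => by
        rw [IsScalarTower.algebraMap_apply C₁ (C₁ ⊗[C₀] T₀) T₁]
        exact (IsLocalization.Away.lift_eq e hle _).trans (l.commutes x) }
  let sT : T →ₐ[C] Ω := Algebra.TensorProduct.lift (Algebra.ofId C Ω) sT₁ fun _ _ => .all _ _
  haveI : Nontrivial T := sT.toRingHom.domain_nontrivial
  have hT : ∀ a b : T →ₐ[C] Ω, a = b := by
    intro a b
    refine Algebra.TensorProduct.ext (Subsingleton.elim _ _) ?_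
    suffices key : ∀ c : T₁ →ₐ[C₁] Ω, c = sT₁ from (key _).trans (key _).symm
    intro c
    let c' : (C₁ ⊗[C₀] T₀) →ₐ[C₁] Ω := c.comp (IsScalarTower.toAlgHom C₁ (C₁ ⊗[C₀] T₀) T₁)
    let c₀ : T₀ →ₐ[C₀] Ω := (c'.restrictScalars C₀).comp Algebra.TensorProduct.includeRight
    have hc' : c' = Algebra.TensorProduct.lift (Algebra.ofId C₁ Ω) c₀ fun _ _ => .all _ _ :=
      Algebra.TensorProduct.ext (Subsingleton.elim _ _) (AlgHom.ext fun x => by simp [c₀])
    have hc0 : c₀ = s := by
      refine huniq c₀ ?_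
      have hu : IsUnit (c' e) := (IsLocalization.Away.algebraMap_isUnit e).map c.toRingHom
      rw [hc'] at hu
      exact hu.ne_zero
    refine AlgHom.coe_ringHom_injective (IsLocalization.ringHom_ext (Submonoid.powers e) ?_)
    refine RingHom.ext fun x => ?_
    show c' x = IsLocalization.Away.lift e hle _
    rw [IsLocalization.Away.lift_eq, hc', hc0]
    rfl
  have hsub := fibre_tensor_subsingleton hT
  haveI : PreconnectedSpace (PrimeSpectrum (T ⊗[C] T)) :=
    preconnectedSpace_of_subsingleton_fibre P (T := T ⊗[C] T) fun z hz z' hz' =>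
      hsub (congrArg PrimeSpectrum.asIdeal hz) (congrArg PrimeSpectrum.asIdeal hz')
  haveI : Module.FaithfullyFlat C T := Module.FaithfullyFlat.of_comap_surjective fun Q => by
    have := (isClopen_image_comap (C := C) (T := T) isClopen_univ).eq_univ
      ⟨_, ⟨⟨RingHom.ker sT.toRingHom, RingHom.ker_isPrime _⟩, trivial, rfl⟩⟩
    obtain ⟨z, -, hz⟩ := (Set.ext_iff.mp this Q).mpr trivial
    exact ⟨z, hz⟩
  let j : B' →+* T := ((Algebra.TensorProduct.includeRight (R := C₁) (A := C) (B := T₁)).toRingHom.comp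
    ((algebraMap (C₁ ⊗[C₀] T₀) T₁).comp (Algebra.TensorProduct.includeRight (R := C₀) (A := C₁) (B := T₀)).toRingHom)).comp j₀
  refine ⟨C, inferInstance, inferInstance, inferInstance, P, T, inferInstance, inferInstance, j, ?_,
    inferInstance, Algebra.FinitePresentation.of_finiteType.mp inferInstance, inferInstance, inferInstance, ?_⟩
  · refine PrimeSpectrum.ext ?_
    show (RingHom.ker (algebraMap C Ω)).comap (algebraMap B C) = q.asIdeal.comap (algebraMap B B')
    rw [← hP₀, RingHom.comap_ker, Ideal.comap_comap]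
    ext x
    show algebraMap C Ω (algebraMap C₁ C (algebraMap C₀ C₁ (algebraMap B C₀ x))) = 0 ↔ _
    rw [← IsScalarTower.algebraMap_apply C₁ C Ω, ← IsScalarTower.algebraMap_apply C₀ C₁ Ω]
    rw [IsScalarTower.algebraMap_apply C₀ T₀ Ω]
    show algebraMap C₀ T₀ (algebraMap B C₀ x) ∈ RingHom.ker (s : T₀ →+* Ω) ↔ _
    rw [hs,
      ← show t.asIdeal.comap (algebraMap C₀ T₀) = P₀ from congrArg PrimeSpectrum.asIdeal ht]
    rfl
  · refine RingHom.ext fun x => ?_
    show Algebra.TensorProduct.includeRight (R := C₁) (A := C) (algebraMap (C₁ ⊗[C₀] T₀) T₁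
      (Algebra.TensorProduct.includeRight (R := C₀) (A := C₁) (j₀ (algebraMap B B' x)))) =
        algebraMap C T (algebraMap C₁ C (algebraMap C₀ C₁ (algebraMap B C₀ x)))
    rw [show j₀ (algebraMap B B' x) = algebraMap C₀ T₀ (algebraMap B C₀ x) from RingHom.congr_fun hj₀ x,
      AlgHom.commutes, IsScalarTower.algebraMap_apply C₀ C₁ (C₁ ⊗[C₀] T₀),
      ← IsScalarTower.algebraMap_apply C₁ (C₁ ⊗[C₀] T₀) T₁, AlgHom.commutes,
      IsScalarTower.algebraMap_apply C₁ C T]

end Groth.Agent.TwDescend
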